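import Cfsg.Agent.Lib.Char.UniqueP.Local
import Cfsg.Agent.Lib.Char.RelDegreeSplit
import Cfsg.Agent.Lib.Char.ExtraExt.LamPart
import Cfsg.Agent.Lib.Char.BrauerTuan.Centralizers
import Cfsg.Agent.Lib.Solv.PSq.PrimeDeg
import Cfsg.Agent.Lib.Char.HalfDegree.Reduce
import Mathlib

/-!
# Transitive groups of prime degree: the character of degree `p` on the complement
-/

set_option autoImplicit false
set_option linter.unusedSectionVars false
set_option linter.style.haveILetI false

open scoped ComplexConjugate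

namespace Cfsg.Agent.Char.UniqueP

open Cfsg Cfsg.Agent Cfsg.Agent.Char Equiv

universe u

section Perm

variable {α : Type u} [Fintype α] [DecidableEq α] {p : ℕ} [Fact p.Prime] {G : Subgroup (Perm α)}

/-- The powers of an element of order `p` on `p` points are transitive. -/
theorem transitive_powers (hα : Fintype.card α = p) {y : Perm α} (hy : orderOf y = p) :
    ∀ a b : α, ∃ i : ℕ, (y ^ i) a = b := by
  have hp := (Fact.out : p.Prime)
  haveI : Fact (Fintype.card α).Prime := ⟨hα ▸ hp⟩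
  have hcyc : y.IsCycle := Perm.isCycle_of_prime_order'' (hα ▸ hp) (by rw [hy, hα])
  have hsupp : y.support = Finset.univ := by
    rw [← Finset.card_eq_iff_eq_univ, ← hcyc.orderOf, hy, hα]
  have hmove : ∀ a, y a ≠ a := fun a => Perm.mem_support.1 (hsupp ▸ Finset.mem_univ a)
  intro a b
  obtain ⟨i, -, hi⟩ := (hcyc.sameCycle (hmove a) (hmove b)).exists_pow_eq'
  exact ⟨i, hi⟩

theorem card_sylow_prime (hα : Fintype.card α = p) [MulAction.IsPretransitive G α] (P : Sylow p G) :
    Nat.card (P : Subgroup G) = p ∧ p ∣ Nat.card G ∧ ¬ p ^ 2 ∣ Nat.card G := by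
  have hp := (Fact.out : p.Prime)
  obtain ⟨a⟩ : Nonempty α := Fintype.card_pos_iff.mp (hα ▸ hp.pos)
  have h2 : p ∣ Nat.card G := by
    have := (MulAction.stabilizer G a).index_dvd_card
    rwa [MulAction.index_stabilizer_of_transitive, Nat.card_eq_fintype_card, hα] at this
  have h3 : ¬ p ^ 2 ∣ Nat.card G := by
    intro hd
    have h1 : p ^ 2 ∣ p.factorial := by
      refine hd.trans ?_
      have := Subgroup.card_subgroup_dvd_card G
      rwa [Nat.card_eq_fintype_card (α := Perm α), Fintype.card_perm, hα] at this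
    rw [← Nat.mul_factorial_pred hp.ne_zero, pow_two] at h1
    have := hp.dvd_factorial.mp ((Nat.mul_dvd_mul_iff_left hp.pos).mp h1)
    have := hp.pos
    omega
  refine ⟨?_, h2, h3⟩
  rw [P.card_eq_multiplicity]
  have h1 : (Nat.card G).factorization p = 1 := by
    refine le_antisymm ?_ (hp.factorization_pos_of_dvd Nat.card_pos.ne' h2)
    by_contra hc
    exact h3 ((pow_dvd_pow p (by omega)).trans (Nat.ordProj_dvd _ p))
  rw [h1, pow_one]

theorem orderOf_of_mem (P : Subgroup G) (hP : Nat.card P = p) {y : G} (hy : y ∈ P) (hy1 : y ≠ 1) :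
    orderOf y = p := by
  have h1 := orderOf_dvd_natCard (⟨y, hy⟩ : P)
  rw [hP, Subgroup.orderOf_mk] at h1
  exact ((Fact.out : p.Prime).eq_one_or_self_of_dvd _ h1).resolve_left fun e => hy1 (orderOf_eq_one_iff.mp e)

theorem zpowers_eq_of_mem (P : Subgroup G) (hP : Nat.card P = p) {y : G} (hy : y ∈ P) (hy1 : y ≠ 1) :
    Subgroup.zpowers y = P :=
  Subgroup.eq_of_le_of_card_ge (Subgroup.zpowers_le.mpr hy)
    (by rw [hP, Nat.card_zpowers, orderOf_of_mem P hP hy hy1])

theorem centralizer_eq (hα : Fintype.card α = p) (P : Subgroup G) (hP : Nat.card P = p) {y : G}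
    (hy : y ∈ P) (hy1 : y ≠ 1) : Subgroup.centralizer ({y} : Set G) = P := by
  have hyo : orderOf (y : Perm α) = p := by rw [Subgroup.orderOf_coe, orderOf_of_mem P hP hy hy1]
  have htr := transitive_powers hα hyo
  refine le_antisymm (fun c hc => ?_) fun c hc => ?_
  · obtain ⟨a⟩ : Nonempty α := Fintype.card_pos_iff.mp (hα ▸ (Fact.out : p.Prime).pos)
    obtain ⟨i, hi⟩ := htr a ((c : Perm α) a)
    have hcy : Commute (c : Perm α) (y : Perm α) :=
      congrArg Subtype.val (Subgroup.mem_centralizer_singleton_iff.mp hc)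
    have h1 : ((y : Perm α) ^ i)⁻¹ * (c : Perm α) = 1 :=
      Solv.PSq.eq_one_of_commute (y : Perm α) _ htr
        (((Commute.refl (y : Perm α)).pow_left i).inv_left.mul_left hcy) a
        (by rw [Perm.mul_apply, Perm.inv_eq_iff_eq, hi])
    have h2 : c = y ^ i := Subtype.ext (inv_mul_eq_one.mp h1).symm
    rw [h2]
    exact pow_mem hy i
  · rw [← zpowers_eq_of_mem P hP hy hy1] at hc
    obtain ⟨j, rfl⟩ := Subgroup.mem_zpowers_iff.mp hc
    exact Subgroup.mem_centralizer_singleton_iff.mpr ((Commute.refl y).zpow_left j).eq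

theorem mem_normalizer_of_conj (P : Subgroup G) (hP : Nat.card P = p) {g y : G} (hy : y ∈ P)
    (hy1 : y ≠ 1) (hg : g⁻¹ * y * g ∈ P) : g ∈ Subgroup.normalizer (P : Set G) := by
  have hmap : P.map (MulAut.conj g⁻¹).toMonoidHom ≤ P := by
    conv_lhs => rw [← zpowers_eq_of_mem P hP hy hy1, MonoidHom.map_zpowers]
    exact Subgroup.zpowers_le.mpr (by simpa using hg)
  have heq : P.map (MulAut.conj g⁻¹).toMonoidHom = P := Subgroup.eq_of_le_of_card_ge hmap
    (Subgroup.card_map_of_injective (MulAut.conj g⁻¹).injective).ge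
  have hgi : g⁻¹ ∈ Subgroup.normalizer (P : Set G) := by
    refine Subgroup.mem_normalizer_iff.mpr fun z => ⟨fun hz => ?_, fun hz => ?_⟩
    · rw [← heq]; exact ⟨z, hz, rfl⟩
    · rw [← heq] at hz
      obtain ⟨w, hw, e⟩ := hz
      have : w = z := (MulAut.conj g⁻¹).injective e
      exact this ▸ hw
  simpa using inv_mem hgi

variable {E : Subgroup G}

/-- The local data of the complement. -/
theorem exists_loc (hα : Fintype.card α = p) [MulAction.IsPretransitive G α] (P : Sylow p G)
    (hPE : (P : Subgroup G) ⊔ E = Subgroup.normalizer ((P : Subgroup G) : Set G))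
    (hPE' : (P : Subgroup G) ⊓ E = ⊥) :
    Loc p (P : Subgroup G) E ∧ IsCyclic E ∧ Nat.card E ∣ p - 1 ∧
      ∀ g ∈ Subgroup.normalizer ((P : Subgroup G) : Set G), ∃ y ∈ (P : Subgroup G), ∃ x ∈ E, g = y * x := by
  have hp := (Fact.out : p.Prime)
  obtain ⟨hcard, -, -⟩ := card_sylow_prime hα P
  set Q := (P : Subgroup G)
  have hEN : E ≤ Subgroup.normalizer (Q : Set G) := hPE ▸ le_sup_right
  have hnorm : ∀ x ∈ E, ∀ y ∈ Q, x * y * x⁻¹ ∈ Q := fun x hx y hy =>
    (Subgroup.mem_normalizer_iff.mp (hEN hx) y).mp hy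
  have hmul : ∀ g ∈ Subgroup.normalizer (Q : Set G), ∃ y ∈ Q, ∃ x ∈ E, g = y * x := by
    intro g hg
    rw [← hPE, ← SetLike.mem_coe, Subgroup.coe_mul_of_right_le_normalizer_left Q E hEN] at hg
    obtain ⟨y, hy, x, hx, e⟩ := hg
    exact ⟨y, hy, x, hx, e.symm⟩
  obtain ⟨y₀, hy₀, hy₀1⟩ : ∃ y ∈ Q, y ≠ (1 : G) := by
    by_contra hno
    push Not at hno
    refine hp.ne_one ?_
    rw [← hcard, (Subgroup.eq_bot_iff_forall _).mpr hno, Subgroup.card_bot]
  let act : E →* MulAut Q :=
    { toFun := fun x =>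
        { toFun := fun y => ⟨(x : G) * y * (x : G)⁻¹, hnorm x x.2 y y.2⟩
          invFun := fun y => ⟨(x : G)⁻¹ * y * x, by simpa using hnorm _ (inv_mem x.2) y y.2⟩
          left_inv := fun y => Subtype.ext (by group)
          right_inv := fun y => Subtype.ext (by group)
          map_mul' := fun a b => Subtype.ext (by simp [mul_assoc]) }
      map_one' := MulEquiv.ext fun y => Subtype.ext (by simp)
      map_mul' := fun a b => MulEquiv.ext fun y => Subtype.ext (by simp [mul_assoc]) }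
  have hinj : Function.Injective act := by
    rw [injective_iff_map_eq_one]
    intro x hx
    have h1 : (x : G) * y₀ * (x : G)⁻¹ = y₀ :=
      congrArg Subtype.val (DFunLike.congr_fun hx (⟨y₀, hy₀⟩ : Q))
    have h2 : (x : G) ∈ Subgroup.centralizer ({y₀} : Set G) :=
      Subgroup.mem_centralizer_singleton_iff.mpr (mul_inv_eq_iff_eq_mul.mp h1)
    rw [centralizer_eq hα Q hcard hy₀ hy₀1] at h2
    have h3 : (x : G) ∈ Q ⊓ E := ⟨h2, x.2⟩
    rw [hPE', Subgroup.mem_bot] at h3
    exact Subtype.ext h3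
  haveI : IsCyclic Q := isCyclic_of_prime_card hcard
  have e0 : (ZMod (Nat.card Q))ˣ ≃* (ZMod p)ˣ := Units.mapEquiv (ZMod.ringEquivCongr hcard).toMulEquiv
  let f : E →* (ZMod p)ˣ := ((IsCyclic.mulAutMulEquiv Q).trans e0).toMonoidHom.comp act
  have hf : Function.Injective f := ((IsCyclic.mulAutMulEquiv Q).trans e0).injective.comp hinj
  have hdvd : Nat.card E ∣ p - 1 := by
    have := Subgroup.card_dvd_of_injective f hf
    rwa [Nat.card_eq_fintype_card (α := (ZMod p)ˣ), ZMod.card_units] at this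
  have hcyc : IsCyclic E := isCyclic_of_injective f hf
  refine ⟨⟨hp, hcard, hnorm, hPE', fun a ha b hb => ?_, fun g y hy hy1 hg => ?_, fun hd => ?_⟩, hcyc, hdvd, hmul⟩
  · exact congrArg Subtype.val (hf (by rw [map_mul, map_mul, mul_comm]) :
      (⟨a, ha⟩ : E) * ⟨b, hb⟩ = ⟨b, hb⟩ * ⟨a, ha⟩)
  · exact hmul g (mem_normalizer_of_conj Q hcard hy hy1 hg)
  · have h1 : p ≤ p - 1 := Nat.le_of_dvd (by have := hp.two_le; omega) (Nat.dvd_trans hd hdvd)
    have := hp.two_le
    omega

/-- An element of the complement has exactly one fixed point. -/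
theorem fixed_point (hα : Fintype.card α = p) (P : Sylow p G) (hcard : Nat.card (P : Subgroup G) = p)
    (_hPE' : (P : Subgroup G) ⊓ E = ⊥) (h : Loc p (P : Subgroup G) E) (hdvd : Nat.card E ∣ p - 1)
    {v : G} (hv : v ∈ E) (hv1 : v ≠ 1) :
    (∃ a : α, (v : Perm α) a = a ∧ ∀ b, (v : Perm α) b = b → b = a) ∧
      ∃ k : ℕ, p = 1 + k * orderOf v ∧ (v : Perm α).sign = (-1) ^ (k * orderOf v + k) := by
  have hp := (Fact.out : p.Prime)
  obtain ⟨y, hy, hy1⟩ : ∃ y ∈ (P : Subgroup G), y ≠ (1 : G) := by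
    by_contra hno
    push Not at hno
    refine hp.ne_one ?_
    rw [← hcard, (Subgroup.eq_bot_iff_forall _).mpr hno, Subgroup.card_bot]
  have hyo : orderOf (y : Perm α) = p := by rw [Subgroup.orderOf_coe, orderOf_of_mem _ hcard hy hy1]
  have htr := transitive_powers hα hyo
  have htwo : ∀ w : G, w ∈ E → ∀ a b : α, a ≠ b → (w : Perm α) a = a → (w : Perm α) b = b → w = 1 := by
    intro w hw a b hab ha hb
    have h1 : (w : Perm α) * (y : Perm α) * (w : Perm α)⁻¹ ∈ Subgroup.zpowers (y : Perm α) := by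
      have h2 := h.norm w hw y hy
      rw [← zpowers_eq_of_mem _ hcard hy hy1] at h2
      obtain ⟨j, hj⟩ := Subgroup.mem_zpowers_iff.mp h2
      refine Subgroup.mem_zpowers_iff.mpr ⟨j, ?_⟩
      simpa using congrArg Subtype.val hj
    exact Subtype.ext (Solv.PSq.fix_all_of_normalises hp (y : Perm α) (w : Perm α) hyo htr h1 a b hab ha hb)
  set f := (v : Perm α) with hf
  have hfo : orderOf f = orderOf v := Subgroup.orderOf_coe v
  have hlen : ∀ c ∈ f.cycleType, c = orderOf f := by
    intro c hc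
    have hdv : c ∣ orderOf f := Perm.dvd_of_mem_cycleType hc
    refine Nat.dvd_antisymm hdv (orderOf_dvd_of_pow_eq_one ?_)
    rw [Perm.cycleType_def] at hc
    obtain ⟨σ, hσ, hσc⟩ := Multiset.mem_map.mp hc
    obtain ⟨hσcyc, hσf⟩ := Perm.mem_cycleFactorsFinset_iff.mp hσ
    have hfix : ∀ a ∈ σ.support, (f ^ c) a = a := by
      intro a ha
      have h1 : ∀ i : ℕ, (f ^ i) a = (σ ^ i) a := by
        intro i
        induction i with
        | zero => rfl
        | succ i ih =>
          rw [pow_succ', pow_succ', Perm.mul_apply, Perm.mul_apply, ih]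
          exact (hσf _ (Perm.pow_apply_mem_support.mpr ha)).symm
      rw [h1 c, show c = orderOf σ by rw [hσcyc.orderOf]; exact hσc.symm, pow_orderOf_eq_one]
      rfl
    obtain ⟨a, ha, b, hb, hab⟩ := Finset.one_lt_card.mp hσcyc.two_le_card_support
    have := htwo (v ^ c) (pow_mem hv c) a b hab (by rw [SubgroupClass.coe_pow]; exact hfix a ha)
      (by rw [SubgroupClass.coe_pow]; exact hfix b hb)
    rw [← SubgroupClass.coe_pow, this]
    rfl
  set k := f.cycleType.card with hk
  have hsum : f.cycleType.sum = k * orderOf f := by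
    rw [Multiset.eq_replicate_card.mpr hlen, Multiset.sum_replicate, smul_eq_mul]
  have hsupp : f.support.card = k * orderOf v := by rw [← Perm.sum_cycleType, hsum, hfo]
  have hov : orderOf v ∣ p - 1 := by
    refine dvd_trans ?_ hdvd
    rw [← Subgroup.orderOf_mk v hv]
    exact orderOf_dvd_natCard _
  have hcomp : f.supportᶜ.card + k * orderOf v = p := by
    rw [← hsupp, Finset.card_compl_add_card, hα]
  have hle : f.supportᶜ.card ≤ 1 := by
    by_contra hgt
    obtain ⟨a, ha, b, hb, hab⟩ := Finset.one_lt_card.mp (not_le.mp hgt)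
    refine hv1 (htwo v hv a b hab ?_ ?_)
    · simpa [hf] using ha
    · simpa [hf] using hb
  have hone : f.supportᶜ.card = 1 := by
    by_contra hne
    have h0 : k * orderOf v = p := by omega
    have h1 : orderOf v ∣ p := ⟨k, by rw [← h0, mul_comm]⟩
    rcases hp.eq_one_or_self_of_dvd _ h1 with e | e
    · exact hv1 (orderOf_eq_one_iff.mp e)
    · have := Nat.le_of_dvd (by have := hp.two_le; omega) hov
      have := hp.pos
      omega
  obtain ⟨a, ha⟩ := Finset.card_eq_one.mp hone
  have hiff : ∀ b, f b = b ↔ b = a := fun b => by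
    rw [← Finset.mem_singleton (a := a), ← ha, Finset.mem_compl, Perm.mem_support, not_not]
  exact ⟨⟨a, (hiff a).mpr rfl, fun b hb => (hiff b).mp hb⟩, k, by omega,
    by rw [Perm.sign_of_cycleType, hsum, hfo]⟩

end Perm

section Character

variable {G : Type u} [Group G] [Fintype G] {p : ℕ} {P E : Subgroup G}

open scoped _root_.Classical in
/-- The values on the complement of a character of degree `p` are those of a linear character; the
multiplicities are all `n` but one. -/
theorem exists_linear_part [Fintype P] [Fintype E] (h : Loc p P E)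
    (hcent : ∀ y ∈ P, y ≠ (1 : G) → Subgroup.centralizer ({y} : Set G) = P)
    (hsq : ¬ p ^ 2 ∣ Nat.card G) {n : ℕ} (hpn : p = n * Nat.card E + 1) [Fintype (↥E →* ℂˣ)]
    (χ : IrrCharacter G) (hdeg : deg (χ : G → ℂ) = p) :
    (∀ y ∈ P, y ≠ 1 → (χ : G → ℂ) y = 0) ∧ ∃ l₀ : ↥E →* ℂˣ,
      (∀ x : E, x ≠ 1 → (χ : G → ℂ) (x : G) = (l₀ x : ℂ)) ∧
      ((χ : G → ℂ) ∘ E.subtype) = ∑ l : ↥E →* ℂˣ, (n + if l = l₀ then 1 else 0) • fun x => (l x : ℂ) := by
  haveI : Fact p.Prime := ⟨h.hp⟩
  have hcE : ∀ a b : E, a * b = b * a := fun a b => Subtype.ext (h.comm a a.2 b b.2)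
  have hP0 : ∀ y ∈ P, y ≠ 1 → (χ : G → ℂ) y = 0 := by
    intro y hy hy1
    refine BrauerTuan.vanish_of_full_part (r := p) χ ?_ ?_
    · rw [hdeg, h.hp.factorization_self]
      by_contra hc
      exact hsq ((pow_dvd_pow p (by omega)).trans (Nat.ordProj_dvd _ p))
    · have h1 := orderOf_dvd_natCard (⟨y, hy⟩ : P)
      rw [h.cardP, Subgroup.orderOf_mk] at h1
      rcases h.hp.eq_one_or_self_of_dvd _ h1 with e | e
      · exact absurd (orderOf_eq_one_iff.mp e) hy1
      · rw [e]
  refine ⟨hP0, ?_⟩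
  obtain ⟨V, -⟩ := HalfDegree.exists_valuation_nonunit h.hp
  obtain ⟨d, ρ, hρ, hχ⟩ := id χ.2
  obtain ⟨s, R, hR, -⟩ := exists_matrix_form V ρ
  have hRχ : ∀ g, ((R g).trace : ℂ) = (χ : G → ℂ) g := fun g => by rw [← hR, ← hχ]; rfl
  have hE0 : (Nat.card E : ℂ) ≠ 0 := Nat.cast_ne_zero.mpr Nat.card_pos.ne'
  have hres : IsCharacter E ((χ : G → ℂ) ∘ E.subtype) := isCharacter_comp E.subtype (irr_isCharacter χ.2)
  have hpe0 : p * Nat.card E ≠ 0 := mul_ne_zero h.hp.ne_zero Nat.card_pos.ne'
  have hcoef : ∀ l : ↥E →* ℂˣ, ∃ k : ℕ,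
      classInner ((χ : G → ℂ) ∘ E.subtype) (fun x => (l x : ℂ)) = (k : ℂ) + n := by
    intro l
    let c : ↥E →* V :=
      { toFun := fun x => ⟨(l x : ℂ), mem_of_pow_eq_one V (m := Nat.card E) Nat.card_pos.ne' (by
          rw [← Units.val_pow_eq_pow_val, ← map_pow, pow_card_eq_one', map_one, Units.val_one])⟩
        map_one' := Subtype.ext (by simp)
        map_mul' := fun x y => Subtype.ext (by simp) }
    have hQ := qSum_sq R h c
    set Qc := (qSum P R c).map ((↑) : V → ℂ) with hQc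
    have hQc2 : Qc * Qc = ((p * Nat.card E : ℕ) : ℂ) • Qc := by
      have h1 := congrArg V.subtype.mapMatrix hQ
      rw [map_mul, map_nsmul] at h1
      rw [Nat.cast_smul_eq_nsmul]
      exact h1
    have hm : ((p * Nat.card E : ℕ) : ℂ) ≠ 0 := Nat.cast_ne_zero.mpr hpe0
    set Qp := ((p * Nat.card E : ℕ) : ℂ)⁻¹ • Qc with hQp
    have hidem : IsIdempotentElem (Matrix.toLin' Qp) := by
      show Matrix.toLin' Qp * Matrix.toLin' Qp = _
      rw [Module.End.mul_eq_comp, ← Matrix.toLin'_mul, hQp, smul_mul_assoc, mul_smul_comm, hQc2, smul_smul,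
        smul_smul, mul_assoc, inv_mul_cancel₀ hm, mul_one]
    obtain ⟨W, hW⟩ := (LinearMap.isProj_iff_isIdempotentElem _).mpr hidem
    refine ⟨Module.finrank ℂ W, ?_⟩
    have htr := LinearMap.IsProj.trace (⟨hW.map_mem, hW.map_id⟩ : LinearMap.IsProj W (Matrix.toLin' Qp))
    rw [Matrix.trace_toLin'_eq, hQp, Matrix.trace_smul, smul_eq_mul] at htr
    have hval : Qc.trace = (p : ℂ) * ((1 : ℂ) - p + ∑ x : E, (χ : G → ℂ) (x : G) * conj (l x : ℂ)) := by
      have h1 : Qc.trace = ∑ y : P, ∑ x : E, ((c x⁻¹ : V) : ℂ) * (χ : G → ℂ) ((y : G) * x) := by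
        rw [hQc, ← show ((qSum P R c).trace : ℂ) = ((qSum P R c).map ((↑) : V → ℂ)).trace from
          AddMonoidHom.map_trace V.subtype.toAddMonoidHom (qSum P R c)]
        rw [qSum, pSum, eSum, Finset.sum_mul, Matrix.trace_sum, AddSubmonoidClass.coe_finsetSum]
        refine Finset.sum_congr rfl fun y _ => ?_
        rw [Finset.mul_sum, Matrix.trace_sum, AddSubmonoidClass.coe_finsetSum]
        refine Finset.sum_congr rfl fun x _ => ?_
        rw [mul_smul_comm, Matrix.trace_smul, smul_eq_mul, ← map_mul, ← hRχ]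
        rfl
      have hx : ∀ x : E, ∑ y : P, ((c x⁻¹ : V) : ℂ) * (χ : G → ℂ) ((y : G) * x) =
          if x = 1 then (p : ℂ) else (p : ℂ) * ((χ : G → ℂ) (x : G) * conj (l x : ℂ)) := by
        intro x
        have hci : ((c x⁻¹ : V) : ℂ) = conj (l x : ℂ) := (char_inv (isCharacter_linear l) x)
        split_ifs with hx1
        · subst hx1
          rw [Finset.sum_eq_single (1 : P)]
          · rw [inv_one, map_one, OneMemClass.coe_one, OneMemClass.coe_one, OneMemClass.coe_one,
              mul_one, char_one_eq_deg (irr_isCharacter χ.2), hdeg, one_mul]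
          · intro y _ hy
            rw [OneMemClass.coe_one, mul_one, hP0 y y.2 (fun e => hy (Subtype.ext e)), mul_zero]
          · simp
        · have hconst : ∀ y : P, (χ : G → ℂ) ((y : G) * x) = (χ : G → ℂ) (x : G) := by
            intro y
            obtain ⟨z, -, hz⟩ := h.yx_conj hcent y.2 x.2 (fun e => hx1 (Subtype.ext e))
            rw [hz, isClassFunction_character (irr_isCharacter χ.2)]
          rw [Finset.sum_congr rfl fun y _ => by rw [hconst y, hci], Finset.sum_const, Finset.card_univ,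
            ← Nat.card_eq_fintype_card, h.cardP, nsmul_eq_mul]
          ring
      rw [h1, Finset.sum_comm, Finset.sum_congr rfl fun x _ => hx x,
        ← Finset.add_sum_erase Finset.univ _ (Finset.mem_univ (1 : E)), if_pos rfl,
        Finset.sum_congr rfl fun x hx' => if_neg (Finset.ne_of_mem_erase hx'), ← Finset.mul_sum,
        Finset.sum_erase_eq_sub (Finset.mem_univ _)]
      rw [OneMemClass.coe_one, map_one, Units.val_one, map_one, mul_one,
        char_one_eq_deg (irr_isCharacter χ.2), hdeg]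
      ring
    rw [hval] at htr
    rw [classInner]
    simp only [Function.comp_apply, Subgroup.coe_subtype]
    have hpC : (p : ℂ) = (n : ℂ) * Nat.card E + 1 := by exact_mod_cast hpn
    have hp0 : (p : ℂ) ≠ 0 := Nat.cast_ne_zero.mpr h.hp.ne_zero
    push_cast at htr
    rw [← htr]
    field_simp
    linear_combination hpC
  choose k hk using hcoef
  have hexp : ∀ x₀ : E, ∑ l : ↥E →* ℂˣ, ((k l : ℂ) + n) * (l x₀ : ℂ) = (χ : G → ℂ) (x₀ : G) := by
    intro x₀
    simp only [← hk, classInner, Finset.mul_sum, Finset.sum_mul, Function.comp_apply, Subgroup.coe_subtype]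
    rw [Finset.sum_comm, Finset.sum_congr rfl (g := fun x : E => (Nat.card E : ℂ)⁻¹ * (χ : G → ℂ) (x : G) *
      if x⁻¹ * x₀ = 1 then (Nat.card E : ℂ) else 0) fun x _ => ?_]
    · simp only [inv_mul_eq_one, mul_ite, mul_zero]
      rw [Finset.sum_ite_eq' Finset.univ x₀, if_pos (Finset.mem_univ _)]
      field_simp
    · rw [← sum_hom_apply hcE (x⁻¹ * x₀), Finset.mul_sum]
      refine Finset.sum_congr rfl fun l _ => ?_
      rw [map_mul, Units.val_mul, ← char_inv (isCharacter_linear l) x]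
      ring
  have hsum1 : ∑ l : ↥E →* ℂˣ, k l = 1 := by
    have h1 := hexp 1
    simp only [map_one, Units.val_one, mul_one, OneMemClass.coe_one, char_one_eq_deg (irr_isCharacter χ.2),
      hdeg, Finset.sum_add_distrib] at h1
    have h2 : ∑ _l : ↥E →* ℂˣ, (n : ℂ) = (n : ℂ) * Nat.card E := by
      have h3 := sum_hom_apply hcE (1 : E)
      simp only [map_one, Units.val_one, if_true] at h3
      rw [← h3, Finset.mul_sum]
      simp
    rw [h2, hpn] at h1
    push_cast at h1
    have : ((∑ l : ↥E →* ℂˣ, k l : ℕ) : ℂ) = ((1 : ℕ) : ℂ) := by push_cast; linear_combination h1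
    exact_mod_cast this
  obtain ⟨l₀, -, hl₀⟩ := Finset.exists_ne_zero_of_sum_ne_zero (hsum1 ▸ one_ne_zero : ∑ l : ↥E →* ℂˣ, k l ≠ 0)
  have hkval : ∀ l, k l = if l = l₀ then 1 else 0 := by
    intro l
    rw [← Finset.add_sum_erase _ _ (Finset.mem_univ l₀)] at hsum1
    split_ifs with hl
    · subst hl; omega
    · have := Finset.single_le_sum (f := k) (fun _ _ => Nat.zero_le _)
        (Finset.mem_erase.mpr ⟨hl, Finset.mem_univ l⟩)
      omega
  have hfun : ∀ x₀ : E, (χ : G → ℂ) (x₀ : G) = (n : ℂ) * (if x₀ = 1 then (Nat.card E : ℂ) else 0) + (l₀ x₀ : ℂ) := by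
    intro x₀
    rw [← hexp x₀]
    simp only [add_mul, Finset.sum_add_distrib, ← Finset.mul_sum, sum_hom_apply hcE, hkval, Nat.cast_ite,
      Nat.cast_one, Nat.cast_zero, ite_mul, one_mul, zero_mul, Finset.sum_ite_eq', Finset.mem_univ, if_true]
    ring
  refine ⟨l₀, fun x hx => by rw [hfun x, if_neg hx, mul_zero, zero_add], funext fun x => ?_⟩
  rw [Function.comp_apply, Subgroup.coe_subtype, hfun x, Finset.sum_apply]
  simp only [Pi.smul_apply, nsmul_eq_mul, Nat.cast_add, Nat.cast_ite, Nat.cast_one, Nat.cast_zero, add_mul,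
    ite_mul, one_mul, zero_mul, Finset.sum_add_distrib, ← Finset.mul_sum, sum_hom_apply hcE,
    Finset.sum_ite_eq', Finset.mem_univ, if_true]

/-- The linear part is trivial when the group is perfect and the number of regular parts is even. -/
theorem linear_part_trivial [Fintype E] [Fintype (↥E →* ℂˣ)] [DecidableEq (↥E →* ℂˣ)] {n : ℕ} (hn : Even n)
    (hperf : commutator G = ⊤) (χ : IrrCharacter G) (l₀ : ↥E →* ℂˣ)
    (hres : ((χ : G → ℂ) ∘ E.subtype) = ∑ l : ↥E →* ℂˣ, (n + if l = l₀ then 1 else 0) • fun x => (l x : ℂ))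
    (x : E) : (l₀ x : ℂ) = 1 := by
  obtain ⟨d, ρ, hρ, hχ⟩ := id χ.2
  have hdet : detChar ((χ : G → ℂ) ∘ E.subtype) x = 1 := by
    rw [detChar_eq (ρ.comp E.subtype) (χ := (χ : G → ℂ) ∘ E.subtype) (by rw [← hχ]; rfl)]
    show LinearMap.det (ρ (x : G)) = 1
    rw [← detHom_apply]
    have hk := Abelianization.commutator_subset_ker (detHom ρ)
    rw [hperf] at hk
    rw [show detHom ρ (x : G) = 1 from hk (Subgroup.mem_top (x : G)), Units.val_one]
  have hlin : ∀ l : ↥E →* ℂˣ, detChar (fun y => (l y : ℂ)) x = (l x : ℂ) := by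
    intro l
    let r : Representation ℂ E (Fin 1 → ℂ) :=
      { toFun := fun g => (l g : ℂ) • (LinearMap.id : (Fin 1 → ℂ) →ₗ[ℂ] (Fin 1 → ℂ))
        map_one' := by rw [map_one, Units.val_one, one_smul]; rfl
        map_mul' := fun g g' => by
          rw [map_mul, Units.val_mul, ← Module.End.one_eq_id, smul_mul_smul_comm, one_mul] }
    rw [detChar_eq r (χ := fun y => (l y : ℂ)) (funext fun g => by
      show LinearMap.trace ℂ _ ((l g : ℂ) • (LinearMap.id : (Fin 1 → ℂ) →ₗ[ℂ] (Fin 1 → ℂ))) = _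
      rw [map_smul, LinearMap.trace_id, Module.finrank_fin_fun, Nat.cast_one, smul_eq_mul, mul_one])]
    show LinearMap.det ((l x : ℂ) • (LinearMap.id : (Fin 1 → ℂ) →ₗ[ℂ] (Fin 1 → ℂ))) = _
    rw [LinearMap.det_smul, LinearMap.det_id, Module.finrank_fin_fun, pow_one, mul_one]
  rw [hres, RelSplit.detChar_sum _ _ fun l _ => isCharacter_nsmul (isCharacter_linear l) _,
    Finset.prod_congr rfl (g := fun l : ↥E →* ℂˣ => (l x : ℂ) ^ n * if l = l₀ then (l x : ℂ) else 1) fun l _ => by
      rw [RelSplit.detChar_nsmul (isCharacter_linear l), hlin, pow_add]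
      split_ifs <;> simp,
    Finset.prod_mul_distrib, Finset.prod_ite_eq', if_pos (Finset.mem_univ _)] at hdet
  have hprod : (∏ l : ↥E →* ℂˣ, (l x : ℂ)) ^ 2 = 1 := by
    rw [pow_two]
    nth_rw 2 [← Fintype.prod_equiv (Equiv.inv (↥E →* ℂˣ)) (fun l => ((l⁻¹ : ↥E →* ℂˣ) x : ℂ))
      (fun l => (l x : ℂ)) (fun l => rfl)]
    rw [← Finset.prod_mul_distrib]
    refine Finset.prod_eq_one fun l _ => ?_
    rw [← Units.val_mul, MonoidHom.inv_apply, mul_inv_cancel, Units.val_one]
  obtain ⟨m, rfl⟩ := hn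
  rw [Finset.prod_pow, ← two_mul, pow_mul, hprod, one_pow, one_mul] at hdet
  exact hdet

end Character

end Cfsg.Agent.Char.UniqueP
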