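import Cfsg.Agent.Lib.Char.UniqueP.Group
import Cfsg.Agent.Lib.Char.IndValue
import Cfsg.Agent.Lib.Char.Linear
import Cfsg.Agent.Lib.Char.FreeTrace
import Cfsg.Agent.Lib.Char.Exceptional
import Cfsg.Agent.Lib.Char.OrderNine.FullDegree
import Mathlib

/-!
# The generalised characters induced from the TI complement
-/

set_option autoImplicit false
set_option linter.unusedSectionVars false
set_option linter.style.haveILetI false

open scoped ComplexConjugate

namespace Cfsg.Agent.Char.UniqueP.Ctx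

open Cfsg Cfsg.Agent Cfsg.Agent.Char

universe u

variable {G : Type u} [Group G] [Fintype G] {p n : ℕ} {P E : Subgroup G} {u : G} {χ : IrrCharacter G}

/-- The value of a linear character. -/
noncomputable def lc (l : ↥E →* ℂˣ) (x : E) : ℂ := ((l x : ℂˣ) : ℂ)

theorem lc_one (l : ↥E →* ℂˣ) : lc l 1 = 1 := by simp [lc]

theorem lc_mul (l : ↥E →* ℂˣ) (x y : E) : lc l (x * y) = lc l x * lc l y := by simp [lc]

theorem conj_lc (l : ↥E →* ℂˣ) (x : E) : conj (lc l x) = lc l x⁻¹ :=
  (char_inv (isCharacter_linear l) x).symm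

theorem card_E_ne (E : Subgroup G) : (Nat.card E : ℂ) ≠ 0 :=
  Nat.cast_ne_zero.mpr Nat.card_pos.ne'

theorem sum_lc [Fintype E] [DecidableEq (↥E →* ℂˣ)] (l : ↥E →* ℂˣ) :
    ∑ x : E, lc l x = if l = 1 then (Nat.card E : ℂ) else 0 := by
  classical
  have h := sum_hom_units ((Units.coeHom ℂ).comp l)
  have hiff : (Units.coeHom ℂ).comp l = 1 ↔ l = 1 := by
    refine ⟨fun e => MonoidHom.ext fun x => Units.ext ?_, fun e => by rw [e]; ext; simp⟩
    exact DFunLike.congr_fun e x
  simp only [lc]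
  split_ifs with hl
  · rw [if_pos (hiff.mpr hl)] at h
    rw [Nat.card_eq_fintype_card]
    exact h
  · rw [if_neg (fun e => hl (hiff.mp e))] at h
    simpa using h

theorem sum_lc_mul [Fintype E] [DecidableEq (↥E →* ℂˣ)] (l k : ↥E →* ℂˣ) :
    ∑ x : E, lc l x * conj (lc k x) = if l = k then (Nat.card E : ℂ) else 0 := by
  have h1 : ∀ x : E, lc l x * conj (lc k x) = lc (l * k⁻¹) x := fun x => by
    rw [conj_lc]; simp [lc]
  rw [Finset.sum_congr rfl fun x _ => h1 x, sum_lc]
  refine if_congr ⟨fun e => MonoidHom.ext fun x => ?_, fun e => by rw [e]; exact MonoidHom.ext fun x => mul_inv_cancel (k x)⟩ rfl rfl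
  exact mul_inv_eq_one.mp (DFunLike.congr_fun e x)

/-- The twist of a linear character by `u`. -/
def tw (h : Ctx p n P E u χ) (l : ↥E →* ℂˣ) : ↥E →* ℂˣ := l.comp h.sig

theorem tw_tw (h : Ctx p n P E u χ) (l : ↥E →* ℂˣ) : h.tw (h.tw l) = l :=
  MonoidHom.ext fun x => congrArg l (h.sig_sig x)

theorem tw_ne_one (h : Ctx p n P E u χ) {l : ↥E →* ℂˣ} (hl : l ≠ 1) : h.tw l ≠ 1 := fun e => hl (by
  rw [← h.tw_tw l, e]; rfl)

theorem lc_tw (h : Ctx p n P E u χ) (l : ↥E →* ℂˣ) (x : E) : lc (h.tw l) x = lc l (h.sig x) := rfl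

/-- The generalised character induced from `l - 1`. -/
noncomputable def gl (l : ↥E →* ℂˣ) : G → ℂ := indFun E fun x => lc l x - 1

/-- The generalised character orthogonal to `1` and `χ`. -/
noncomputable def wl (χ : IrrCharacter G) (l : ↥E →* ℂˣ) : G → ℂ :=
  gl l + (fun _ => 1) + (χ : G → ℂ)

theorem gl_eq_zero (l : ↥E →* ℂˣ) {g : G} (hg : ∀ t : G, t⁻¹ * g * t ∈ E → t⁻¹ * g * t = 1) :
    gl l g = 0 := by
  rw [gl, indFun]
  refine mul_eq_zero_of_right _ (Finset.sum_eq_zero fun t _ => ?_)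
  by_cases ht : t⁻¹ * g * t ∈ E
  · rw [extendByZero_mem E _ ht,
      show (⟨t⁻¹ * g * t, ht⟩ : E) = 1 from Subtype.ext (hg t ht), lc_one, sub_self]
  · exact extendByZero_not_mem E _ ht

theorem gl_one (l : ↥E →* ℂˣ) : gl (G := G) l 1 = 0 :=
  gl_eq_zero l fun t _ => by group

theorem card_normalizer (h : Ctx p n P E u χ) :
    Nat.card (Subgroup.normalizer (E : Set G)) = Nat.card E + Nat.card E := by
  classical
  set L := Subgroup.normalizer (E : Set G)
  let f : E ⊕ E → L := Sum.elim (fun x => ⟨x, Subgroup.le_normalizer x.2⟩)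
    (fun x => ⟨(x : G) * u, mul_mem (Subgroup.le_normalizer x.2) h.hu⟩)
  have hf : Function.Bijective f := by
    constructor
    · rintro (x | x) (y | y) e <;> have e' := congrArg Subtype.val e <;>
        simp only [f, Sum.elim_inl, Sum.elim_inr] at e'
      · exact congrArg Sum.inl (Subtype.ext e')
      · exact absurd (by rw [show u = (y : G)⁻¹ * x by rw [e']; group]; exact mul_mem (inv_mem y.2) x.2) h.hu'
      · exact absurd (by rw [show u = (x : G)⁻¹ * y by rw [← e']; group]; exact mul_mem (inv_mem x.2) y.2) h.hu'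
      · exact congrArg Sum.inr (Subtype.ext (mul_right_cancel e'))
    · intro q
      rcases h.hL q q.2 with h1 | h1
      · exact ⟨Sum.inl ⟨q, h1⟩, Subtype.ext rfl⟩
      · exact ⟨Sum.inr ⟨_, h1⟩, Subtype.ext (inv_mul_cancel_right (q : G) u)⟩
  rw [← Nat.card_congr (Equiv.ofBijective f hf), Nat.card_sum]

theorem gl_coe (h : Ctx p n P E u χ) (l : ↥E →* ℂˣ) (x : E) :
    gl l (x : G) = lc l x + lc l (h.sig x) - 2 := by
  classical
  by_cases hx : x = 1
  · subst hx
    rw [OneMemClass.coe_one, gl_one, map_one, lc_one]; norm_num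
  set L := Subgroup.normalizer (E : Set G)
  have hval : ∀ t : G, extendByZero E (fun y => lc l y - 1) (t⁻¹ * (x : G) * t) =
      if t ∈ E then lc l x - 1 else if t ∈ L then lc l (h.sig x) - 1 else 0 := by
    intro t
    split_ifs with h1 h2
    · have e : t⁻¹ * (x : G) * t = x := by
        rw [h.comm _ (inv_mem h1) _ x.2, inv_mul_cancel_right]
      rw [e, extendByZero_mem E _ x.2]
    · have e : t⁻¹ * (x : G) * t = h.sig x := by
        have := h.conj_eq (inv_mem h2) (fun hc => h1 (by simpa using inv_mem hc)) x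
        rwa [inv_inv] at this
      rw [e, extendByZero_mem E _ (h.sig x).2]
    · refine extendByZero_not_mem E _ fun hc => h2 ?_
      have := h.ti t⁻¹ x x.2 (fun e => hx (Subtype.ext e)) (by rwa [inv_inv])
      simpa using inv_mem this
  rw [gl, indFun, Finset.sum_congr rfl fun t _ => hval t, Finset.sum_ite, Finset.sum_ite,
    Finset.sum_const_zero, add_zero, Finset.sum_const, Finset.sum_const, nsmul_eq_mul, nsmul_eq_mul]
  have c1 : (Finset.univ.filter fun t : G => t ∈ E).card = Nat.card E := by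
    rw [← Fintype.card_subtype, ← Nat.card_eq_fintype_card]
  have c2 : (((Finset.univ.filter fun t : G => ¬ t ∈ E)).filter fun t => t ∈ L).card = Nat.card E := by
    have hc : Nat.card L = (Finset.univ.filter fun t : G => t ∈ L).card := by
      rw [← Fintype.card_subtype, ← Nat.card_eq_fintype_card]
    have hsplit := Finset.card_filter_add_card_filter_not
      (s := Finset.univ.filter fun t : G => t ∈ L) (fun t => t ∈ E)
    rw [Finset.filter_filter, Finset.filter_filter, ← hc, h.card_normalizer] at hsplit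
    have e1 : (Finset.univ.filter fun t : G => t ∈ L ∧ t ∈ E) = Finset.univ.filter fun t : G => t ∈ E := by
      refine Finset.filter_congr fun t _ => ⟨fun a => a.2, fun a => ⟨Subgroup.le_normalizer a, a⟩⟩
    rw [e1, c1] at hsplit
    rw [Finset.filter_filter,
      show (Finset.univ.filter fun t : G => ¬ t ∈ E ∧ t ∈ L) = Finset.univ.filter fun t : G => t ∈ L ∧ ¬ t ∈ E
        from Finset.filter_congr fun t _ => And.comm]
    omega
  rw [c1, c2]
  have := card_E_ne E
  field_simp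
  ring

theorem classInner_gl (l : ↥E →* ℂˣ) [Fintype E] {F : G → ℂ} (hF : IsClassFunction G F) :
    classInner (gl l) F = (Nat.card E : ℂ)⁻¹ * ∑ x : E, (lc l x - 1) * conj (F (x : G)) := by
  rw [gl, frobenius E _ hF]
  rfl

theorem gl_inner_one [Fintype E] {l : ↥E →* ℂˣ} (hl : l ≠ 1) :
    classInner (gl (G := G) l) (fun _ => 1) = -1 := by
  classical
  rw [classInner_gl l (fun _ _ => rfl)]
  simp only [map_one, mul_one, Finset.sum_sub_distrib, sum_lc, if_neg hl, Finset.sum_const,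
    Finset.card_univ, ← Nat.card_eq_fintype_card, nsmul_eq_mul]
  have := card_E_ne E
  field_simp
  ring

theorem gl_inner_chi (h : Ctx p n P E u χ) [Fintype E] {l : ↥E →* ℂˣ} (hl : l ≠ 1) :
    classInner (gl l) (χ : G → ℂ) = -1 := by
  classical
  rw [classInner_gl l (isClassFunction_character (irr_isCharacter χ.2)),
    Finset.sum_congr rfl (g := fun x => (lc l x - 1) * conj (1 : ℂ)) fun x _ => ?_]
  · simp only [map_one, mul_one, Finset.sum_sub_distrib, sum_lc, if_neg hl, Finset.sum_const,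
      Finset.card_univ, ← Nat.card_eq_fintype_card, nsmul_eq_mul]
    have := card_E_ne E
    field_simp
    ring
  · by_cases hx : x = 1
    · subst hx; simp [lc_one]
    · rw [h.valE x x.2 fun e => hx (Subtype.ext e)]

open scoped _root_.Classical in
theorem gl_inner_gl (h : Ctx p n P E u χ) [Fintype E] {l k : ↥E →* ℂˣ} (hl : l ≠ 1) (hk : k ≠ 1) :
    classInner (gl l) (gl k) =
      (if l = k then (1 : ℂ) else 0) + (if l = h.tw k then (1 : ℂ) else 0) + 2 := by
  rw [classInner_gl l (F := gl k) (isClassFunction_indFun E _),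
    Finset.sum_congr rfl (g := fun x => lc l x * conj (lc k x) + lc l x * conj (lc (h.tw k) x) - 2 * lc l x -
      conj (lc k x) - conj (lc (h.tw k) x) + 2) fun x _ => by
        rw [h.gl_coe, lc_tw, map_sub, map_add, map_ofNat]; ring]
  simp only [Finset.sum_sub_distrib, Finset.sum_add_distrib, ← Finset.mul_sum, sum_lc_mul, sum_lc,
    if_neg hl, ← map_sum, if_neg hk, if_neg (h.tw_ne_one hk), map_zero, Finset.sum_const,
    Finset.card_univ, ← Nat.card_eq_fintype_card, nsmul_eq_mul, mul_zero, sub_zero]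
  have := card_E_ne E
  split_ifs <;> field_simp <;> ring

theorem chi_ne_one (h : Ctx p n P E u χ) : (χ : G → ℂ) ≠ fun _ => 1 := fun e => by
  have := congrFun e 1
  rw [h.deg_eq] at this
  exact h.hp.ne_one (by exact_mod_cast this)

theorem wl_gen (χ : IrrCharacter G) (l : ↥E →* ℂˣ) : IsGeneralizedCharacter G (wl χ l) := by
  refine ⟨indFun E (fun x => lc l x) + (fun _ => 1) + (χ : G → ℂ), indFun E (fun _ => 1),
    isCharacter_add (isCharacter_add (isCharacter_indFun E (isCharacter_linear l)) isCharacter_one)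
      (irr_isCharacter χ.2), isCharacter_indFun E isCharacter_one, ?_⟩
  rw [wl, gl, show (fun x : E => lc l x - 1) = (fun x => lc l x) - (fun _ => 1) from rfl, indFun_sub]
  abel

theorem wl_apply_one (h : Ctx p n P E u χ) (l : ↥E →* ℂˣ) : wl χ l 1 = (p : ℂ) + 1 := by
  simp only [wl, Pi.add_apply, gl_one, h.deg_eq]
  ring

theorem wl_inner (h : Ctx p n P E u χ) [Fintype E] [DecidableEq (↥E →* ℂˣ)] {l k : ↥E →* ℂˣ}
    (hl : l ≠ 1) (hk : k ≠ 1) :
    classInner (wl χ l) (wl χ k) =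
      (if l = k then (1 : ℂ) else 0) + (if l = h.tw k then (1 : ℂ) else 0) := by
  classical
  have e11 : classInner (fun _ : G => (1 : ℂ)) (fun _ => 1) = 1 := irr_self isIrrCharacter_one
  have e1c : classInner (fun _ : G => (1 : ℂ)) (χ : G → ℂ) = 0 := by
    rw [irr_orth isIrrCharacter_one χ.2, if_neg fun e => h.chi_ne_one e.symm]
  have ec1 : classInner (χ : G → ℂ) (fun _ : G => (1 : ℂ)) = 0 := by
    rw [← classInner_symm, e1c, map_zero]
  have e1g : classInner (fun _ : G => (1 : ℂ)) (gl k) = -1 := by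
    rw [← classInner_symm, gl_inner_one hk, map_neg, map_one]
  have ecg : classInner (χ : G → ℂ) (gl k) = -1 := by
    rw [← classInner_symm, h.gl_inner_chi hk, map_neg, map_one]
  simp only [wl, classInner_add_left, classInner_add_right, h.gl_inner_gl hl hk, gl_inner_one hl,
    h.gl_inner_chi hl, e11, e1c, ec1, e1g, ecg, irr_self χ.2]
  split_ifs <;> ring

theorem wl_inner_one (h : Ctx p n P E u χ) [Fintype E] {l : ↥E →* ℂˣ} (hl : l ≠ 1) :
    classInner (wl χ l) (fun _ => 1) = 0 := by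
  rw [wl, classInner_add_left, classInner_add_left, gl_inner_one hl, irr_self isIrrCharacter_one,
    irr_orth χ.2 isIrrCharacter_one, if_neg h.chi_ne_one]
  ring

theorem wl_inner_chi (h : Ctx p n P E u χ) [Fintype E] {l : ↥E →* ℂˣ} (hl : l ≠ 1) :
    classInner (wl χ l) (χ : G → ℂ) = 0 := by
  rw [wl, classInner_add_left, classInner_add_left, h.gl_inner_chi hl, irr_self χ.2,
    irr_orth isIrrCharacter_one χ.2, if_neg fun e => h.chi_ne_one e.symm]
  ring

/-- A moved linear character gives an irreducible character. -/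
theorem exists_wl_irr (h : Ctx p n P E u χ) [Fintype E] {l : ↥E →* ℂˣ} (hl : l ≠ 1)
    (hmv : h.tw l ≠ l) : ∃ X : IrrCharacter G, wl χ l = (X : G → ℂ) := by
  classical
  obtain ⟨z, hz, -⟩ := exists_int_coords (wl_gen χ l)
  have h1 := h.wl_inner hl hl
  rw [if_pos rfl, if_neg fun e => hmv e.symm, classInner_int_combination hz] at h1
  have hsq : ∑ θ, z θ * z θ = 1 := by
    have : ((∑ θ, z θ * z θ : ℤ) : ℂ) = ((1 : ℤ) : ℂ) := by rw [h1]; norm_num
    exact_mod_cast this
  obtain ⟨X, -, hX⟩ := Finset.exists_ne_zero_of_sum_ne_zero (hsq ▸ one_ne_zero : ∑ θ, z θ * z θ ≠ 0)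
  have hrest : ∀ θ, θ ≠ X → z θ = 0 := by
    intro θ hθ
    rw [← Finset.add_sum_erase _ _ (Finset.mem_univ X)] at hsq
    have hpos : 0 < z X * z X := mul_self_pos.mpr fun e => hX (by rw [e, mul_zero])
    have hnn : 0 ≤ ∑ θ ∈ Finset.univ.erase X, z θ * z θ := Finset.sum_nonneg fun θ _ => mul_self_nonneg _
    have := (Finset.sum_eq_zero_iff_of_nonneg fun θ _ => mul_self_nonneg (z θ)).mp
      (show ∑ θ ∈ Finset.univ.erase X, z θ * z θ = 0 by omega) θ
      (Finset.mem_erase.mpr ⟨hθ, Finset.mem_univ _⟩)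
    exact mul_self_eq_zero.mp this
  have hzX : z X = 1 ∨ z X = -1 := by
    rw [Finset.sum_eq_single X (fun θ _ hθ => by rw [hrest θ hθ, mul_zero]) (by simp)] at hsq
    exact mul_self_eq_one_iff.mp hsq
  have hW : wl χ l = (z X : ℂ) • (X : G → ℂ) := by
    rw [hz, Finset.sum_eq_single X (fun θ _ hθ => by rw [hrest θ hθ, Int.cast_zero, zero_smul]) (by simp)]
  rcases hzX with e | e
  · exact ⟨X, by rw [hW, e, Int.cast_one, one_smul]⟩
  · exfalso
    have h2 := congrFun hW 1
    rw [h.wl_apply_one, Pi.smul_apply, e, char_one_eq_deg (irr_isCharacter X.2), smul_eq_mul] at h2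
    push_cast at h2
    have : ((p + 1 + deg (X : G → ℂ) : ℕ) : ℂ) = 0 := by push_cast; linear_combination h2
    exact absurd (Nat.cast_eq_zero.mp this) (by omega)

/-- A fixed linear character gives two irreducible characters. -/
theorem exists_wl_pair (h : Ctx p n P E u χ) [Fintype E] {l : ↥E →* ℂˣ} (hl : l ≠ 1)
    (hfix : h.tw l = l) : ∃ (Y Z : IrrCharacter G) (a b : ℤ), Y ≠ Z ∧ (a = 1 ∨ a = -1) ∧
      (b = 1 ∨ b = -1) ∧ wl χ l = (a : ℂ) • (Y : G → ℂ) + (b : ℂ) • (Z : G → ℂ) := by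
  classical
  obtain ⟨z, hz, -⟩ := exists_int_coords (wl_gen χ l)
  have h1 := h.wl_inner hl hl
  rw [if_pos rfl, if_pos hfix.symm, classInner_int_combination hz] at h1
  have hsq : ∑ θ, z θ * z θ = 2 := by
    have : ((∑ θ, z θ * z θ : ℤ) : ℂ) = ((2 : ℤ) : ℂ) := by rw [h1]; norm_num
    exact_mod_cast this
  set S := Finset.univ.filter fun θ => z θ ≠ 0 with hS
  have hle : ∀ θ ∈ S, 1 ≤ z θ * z θ := fun θ hθ => mul_self_pos.mpr (Finset.mem_filter.mp hθ).2
  have hone : ∀ θ ∈ S, z θ = 1 ∨ z θ = -1 := by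
    intro θ hθ
    have h2 : z θ * z θ ≤ 2 := hsq ▸ Finset.single_le_sum (f := fun θ => z θ * z θ)
      (fun _ _ => mul_self_nonneg _) (Finset.mem_univ θ)
    have h3 : -1 ≤ z θ ∧ z θ ≤ 1 := by constructor <;> nlinarith [hle θ hθ]
    have := (Finset.mem_filter.mp hθ).2
    omega
  have hcard : S.card = 2 := by
    have h2 : ∑ θ ∈ S, z θ * z θ = 2 := by
      rw [← hsq]
      exact Finset.sum_subset (Finset.subset_univ _) fun θ _ hθ => by
        have : z θ = 0 := by simpa [hS] using hθ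
        rw [this, mul_zero]
    rw [Finset.sum_congr rfl (g := fun _ => (1 : ℤ)) fun θ hθ => by
      rcases hone θ hθ with e | e <;> rw [e] <;> norm_num] at h2
    rw [Finset.sum_const, nsmul_eq_mul, mul_one] at h2
    exact_mod_cast h2
  obtain ⟨Y, Z, hYZ, hSe⟩ := Finset.card_eq_two.mp hcard
  refine ⟨Y, Z, z Y, z Z, hYZ, hone Y (by rw [hSe]; simp), hone Z (by rw [hSe]; simp), ?_⟩
  rw [hz, ← Finset.sum_pair (f := fun θ => (z θ : ℂ) • (θ : G → ℂ)) hYZ, ← hSe]
  symm
  exact Finset.sum_subset (Finset.subset_univ _) fun θ _ hθ => by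
    have : z θ = 0 := by simpa [hS] using hθ
    rw [this, Int.cast_zero, zero_smul]

/-- A character orthogonal to all the induced generalised characters vanishes on `E`. -/
theorem vanish_of_orth [Fintype E] (h : Ctx p n P E u χ) {F : G → ℂ} (hF : IsClassFunction G F)
    (horth : ∀ l : ↥E →* ℂˣ, l ≠ 1 → classInner (gl l) F = 0) {x₀ : E} (hx₀ : x₀ ≠ 1) :
    F (x₀ : G) = 0 := by
  classical
  haveI := finite_hom_units E
  letI := Fintype.ofFinite (↥E →* ℂˣ)
  have hc : ∀ a b : E, a * b = b * a := fun a b => Subtype.ext (h.comm a a.2 b b.2)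
  have hzero : ∀ l : ↥E →* ℂˣ, ∑ x : E, (lc l x - 1) * conj (F (x : G)) = 0 := by
    intro l
    by_cases hl : l = 1
    · subst hl; simp [lc]
    · have := horth l hl
      rw [classInner_gl l hF] at this
      exact (mul_eq_zero.mp this).resolve_left (inv_ne_zero (card_E_ne E))
  have h1 : ∑ l : ↥E →* ℂˣ, lc l x₀⁻¹ * ∑ x : E, (lc l x - 1) * conj (F (x : G)) = 0 :=
    Finset.sum_eq_zero fun l _ => by rw [hzero, mul_zero]
  simp only [Finset.mul_sum] at h1
  rw [Finset.sum_comm, Finset.sum_congr rfl (g := fun x : E =>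
    (if x₀⁻¹ * x = 1 then (Nat.card E : ℂ) else 0) * conj (F (x : G))) fun x _ => ?_] at h1
  · simp only [inv_mul_eq_one, ite_mul, zero_mul] at h1
    rw [Finset.sum_ite_eq Finset.univ x₀, if_pos (Finset.mem_univ _), mul_eq_zero] at h1
    exact (map_eq_zero_iff _ (starRingEnd ℂ).injective).mp (h1.resolve_left (card_E_ne E))
  · rw [← sum_hom_apply hc (x₀⁻¹ * x), Finset.sum_mul,
      Finset.sum_congr rfl fun l _ => (mul_assoc (lc l x₀⁻¹) (lc l x - 1) _).symm]
    simp only [mul_sub, mul_one, sub_mul, Finset.sum_sub_distrib]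
    have h0 : ∑ l : ↥E →* ℂˣ, lc l x₀⁻¹ * conj (F (x : G)) = 0 := by
      rw [← Finset.sum_mul]
      simp only [lc]
      rw [sum_hom_apply hc, if_neg (by simpa using hx₀), zero_mul]
    rw [h0, sub_zero]
    exact Finset.sum_congr rfl fun l _ => by rw [← lc_mul]; rfl

/-- Characters outside `1`, `χ` and the constituents of the `wl` vanish on `E`. -/
theorem vanish_other [Fintype E] (h : Ctx p n P E u χ) (θ : IrrCharacter G)
    (h1 : (θ : G → ℂ) ≠ fun _ => 1) (h2 : θ ≠ χ)
    (h3 : ∀ l : ↥E →* ℂˣ, l ≠ 1 → classInner (wl χ l) (θ : G → ℂ) = 0) {x : E} (hx : x ≠ 1) :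
    (θ : G → ℂ) (x : G) = 0 := by
  classical
  refine h.vanish_of_orth (isClassFunction_character (irr_isCharacter θ.2)) (fun l hl => ?_) hx
  have h4 := h3 l hl
  rw [wl, classInner_add_left, classInner_add_left, irr_orth isIrrCharacter_one θ.2,
    if_neg (fun e => h1 e.symm), irr_orth χ.2 θ.2,
    if_neg (fun e => h2 (Subtype.ext e.symm)), add_zero, add_zero] at h4
  exact h4

theorem not_conj_E (h : Ctx p n P E u χ) {y : G} (hy : y ∈ P) (t : G) (ht : t⁻¹ * y * t ∈ E) :
    t⁻¹ * y * t = 1 := by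
  have h2 : (⟨t⁻¹ * y * t, ht⟩ : E) ^ Nat.card E = 1 := pow_card_eq_one'
  have h3 : (⟨y, hy⟩ : P) ^ Nat.card P = 1 := pow_card_eq_one'
  have h2' : (t⁻¹ * y * t) ^ Nat.card E = 1 := congrArg Subtype.val h2
  have h3' : (t⁻¹ * y * t) ^ p = 1 := by
    rw [show t⁻¹ * y * t = t⁻¹ * y * t⁻¹⁻¹ by rw [inv_inv], conj_pow, ← h.cardP,
      show y ^ Nat.card P = 1 from congrArg Subtype.val h3, mul_one, mul_inv_cancel]
  have hg : (t⁻¹ * y * t) ^ Nat.gcd (Nat.card E) p = 1 := pow_gcd_eq_one.mpr ⟨h2', h3'⟩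
  rw [Nat.Coprime.gcd_eq_one ((h.hp.coprime_iff_not_dvd.mpr h.cop).symm), pow_one] at hg
  exact hg

theorem wl_P (h : Ctx p n P E u χ) (l : ↥E →* ℂˣ) {y : G} (hy : y ∈ P) (hy1 : y ≠ 1) :
    wl χ l y = 1 := by
  simp only [wl, Pi.add_apply, gl_eq_zero l (fun t => h.not_conj_E hy t), h.valP y hy hy1]
  ring

theorem wl_coe (h : Ctx p n P E u χ) (l : ↥E →* ℂˣ) {x : E} (hx : x ≠ 1) :
    wl χ l (x : G) = lc l x + lc l (h.sig x) := by
  simp only [wl, Pi.add_apply, h.gl_coe, h.valE x x.2 (fun e => hx (Subtype.ext e))]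
  ring

theorem chi_int (h : Ctx p n P E u χ) (g : G) : ∃ k : ℤ, (χ : G → ℂ) g = k := by
  refine OrderNine.exists_int_of_fixed (irr_isCharacter χ.2) g fun k hk => ?_
  have := h.uniq ⟨_, isIrrCharacter_pow χ.2 hk⟩ (by show (χ : G → ℂ) ((1 : G) ^ k) = p; rw [one_pow, h.deg_eq])
  exact congrFun (congrArg Subtype.val this) g

end Cfsg.Agent.Char.UniqueP.Ctx
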