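import Cfsg.Agent.Lib.Char.UniqueP.OddBound
import Cfsg.Agent.Lib.Small.StructureConstantTwo
import Mathlib

/-!
# Even complement: at most five points
-/

set_option autoImplicit false
set_option linter.unusedSectionVars false
set_option linter.style.haveILetI false

open scoped ComplexConjugate

namespace Cfsg.Agent.Char.UniqueP.Ctx

open Cfsg Cfsg.Agent Cfsg.Agent.Char

universe u

variable {G : Type u} [Group G] [Fintype G] {p n : ℕ} {P E : Subgroup G} {u : G} {χ : IrrCharacter G}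

theorem eq_half_of_normSq {a b m : ℂ} (hsum : a + b = 2 * m) (hm : Complex.normSq m = 1)
    (hsq : Complex.normSq a + Complex.normSq b = 2) : a = m ∧ b = m := by
  have h1 : Complex.normSq (a - b) + Complex.normSq (a + b) =
      2 * (Complex.normSq a + Complex.normSq b) := by
    simp only [Complex.normSq_apply, Complex.sub_re, Complex.sub_im, Complex.add_re, Complex.add_im]
    ring
  rw [hsum, map_mul, Complex.normSq_ofNat, hm, hsq] at h1
  have h2 : a - b = 0 := Complex.normSq_eq_zero.mp (by linarith)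
  have h3 : a = b := sub_eq_zero.mp h2
  subst h3
  have h4 : a = m := by linear_combination hsum / 2
  exact ⟨h4, h4⟩

/-- An element of `E` not squaring to one is self-centralising in the group. -/
theorem centralizer_eq_E (h : Ctx p n P E u χ) {x : E} (hx : x * x ≠ 1) :
    Subgroup.centralizer ({(x : G)} : Set G) = E := by
  refine le_antisymm (fun g hg => ?_) fun g hg =>
    Subgroup.mem_centralizer_singleton_iff.mpr (h.comm _ hg _ x.2)
  have hx1 : (x : G) ≠ 1 := fun e => hx (by rw [show x = 1 from Subtype.ext e, one_mul])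
  have hc : g * (x : G) * g⁻¹ = x := by
    rw [Subgroup.mem_centralizer_singleton_iff.mp hg, mul_inv_cancel_right]
  by_contra hgE
  exact hx (h.sq_eq_one_of_fixed (Subtype.ext
    ((h.conj_eq (h.ti g x x.2 hx1 (by rw [hc]; exact x.2)) hgE x).symm.trans hc)))

/-- An involution of `E` has the normaliser as centraliser. -/
theorem centralizer_eq_L (h : Ctx p n P E u χ) {z : E} (hz : z * z = 1) (hz1 : z ≠ 1) :
    Subgroup.centralizer ({(z : G)} : Set G) = Subgroup.normalizer (E : Set G) := by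
  refine le_antisymm (fun g hg => ?_) fun g hg => ?_
  · have hc : g * (z : G) * g⁻¹ = z := by
      rw [Subgroup.mem_centralizer_singleton_iff.mp hg, mul_inv_cancel_right]
    exact h.ti g z z.2 (fun e => hz1 (Subtype.ext e)) (by rw [hc]; exact z.2)
  · refine Subgroup.mem_centralizer_singleton_iff.mpr ?_
    by_cases hgE : g ∈ E
    · exact h.comm _ hgE _ z.2
    · have := h.conj_eq hg hgE z
      rw [h.sig_fix_sq hz] at this
      exact mul_inv_eq_iff_eq_mul.mp this

/-- The values at the generator and at the involution. -/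
theorem exists_even_data (h : Ctx p n P E u χ) [Fintype E] {x₀ z : E}
    (hgen : ∀ v : E, v ∈ Subgroup.zpowers x₀) (hz : z * z = 1) (hz1 : z ≠ 1) :
    ∃ (A B : ℤ), A + B = (p : ℤ) + 1 ∧ (A ≤ -2 ∨ 2 ≤ A) ∧ (B ≤ -2 ∨ 2 ≤ B) ∧
      ∑ θ : IrrCharacter G, conj ((θ : G → ℂ) (x₀ : G)) * ((θ : G → ℂ) (z : G) * (θ : G → ℂ) (z : G) / (θ : G → ℂ) 1) =
        1 + (p : ℂ)⁻¹ - (A : ℂ)⁻¹ - (B : ℂ)⁻¹ := by
  classical
  haveI := finite_hom_units E
  letI := Fintype.ofFinite (↥E →* ℂˣ)
  have hcE : ∀ a b : E, a * b = b * a := fun a b => Subtype.ext (h.comm a a.2 b b.2)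
  have hx01 : x₀ ≠ 1 := fun e => hz1 (by
    have := hgen z
    rw [e, Subgroup.zpowers_one_eq_bot, Subgroup.mem_bot] at this
    exact this)
  have ho2 : 2 ∣ orderOf x₀ := by
    rw [orderOf_eq_card_of_forall_mem_zpowers hgen]
    have := orderOf_dvd_natCard z
    rwa [orderOf_eq_prime (p := 2) (by rw [pow_two, hz]) hz1] at this
  -- the fixed linear character
  set μ : ↥E →* ℂˣ := monoidHomOfForallMemZpowers hgen (g' := (-1 : ℂˣ))
    ((orderOf_dvd_of_pow_eq_one (by rw [pow_two]; simp)).trans ho2) with hμdef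
  have hμx : lc μ x₀ = -1 := by
    rw [lc, hμdef, monoidHomOfForallMemZpowers_apply_gen]
    simp
  have hext : ∀ l k : ↥E →* ℂˣ, l x₀ = k x₀ → l = k := fun l k e => MonoidHom.ext fun v => by
    obtain ⟨j, rfl⟩ := Subgroup.mem_zpowers_iff.mp (hgen v)
    rw [map_zpow, map_zpow, e]
  have hμ1 : μ ≠ 1 := fun e => by
    have := hμx
    rw [e] at this
    simp [lc] at this
    norm_num at this
  have hpm : ∀ v : E, lc μ v * lc μ v = 1 := by
    intro v
    have e2 : μ * μ = 1 := hext _ _ (by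
      refine Units.ext ?_
      simp only [MonoidHom.mul_apply, Units.val_mul, MonoidHom.one_apply, Units.val_one]
      rw [show ((μ x₀ : ℂˣ) : ℂ) = -1 from hμx]
      norm_num)
    have := congrArg (fun c => ((c : ℂˣ) : ℂ)) (DFunLike.congr_fun e2 v)
    simpa [lc] using this
  have hfix : h.tw μ = μ := by
    refine hext _ _ (Units.ext ?_)
    show lc μ (h.sig x₀) = lc μ x₀
    rcases mul_self_eq_one_iff.mp (hpm (h.sig x₀)) with e | e
    · exfalso
      refine hμ1 ?_
      rw [← h.tw_tw μ, hext (h.tw μ) 1 (Units.ext e)]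
      rfl
    · rw [e, hμx]
  have hmv : ∀ l : ↥E →* ℂˣ, l ≠ 1 → l ≠ μ → h.tw l ≠ l := by
    intro l hl1 hlμ e
    let f : E →* E := MonoidHom.mk' (fun v => h.sig v * v⁻¹) fun a b => by
      rw [map_mul, _root_.mul_inv_rev, hcE b⁻¹ a⁻¹]
      rw [mul_assoc, mul_assoc, ← mul_assoc (h.sig b), hcE (h.sig b) a⁻¹, mul_assoc]
    have hker : Nat.card f.ker ≤ 2 := by
      refine le_trans (le_of_eq_of_le rfl ?_) (le_of_eq (show Nat.card ({1, z} : Set E) = 2 by
        rw [Nat.card_coe_set_eq, Set.ncard_pair hz1.symm]))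
      refine Nat.card_mono (Set.toFinite _) fun v hv => ?_
      have hv' : h.sig v = v := mul_inv_eq_one.mp (MonoidHom.mem_ker.mp hv)
      by_cases hv1 : v = 1
      · exact Or.inl hv1
      · exact Or.inr (h.sq_eq_one_unique (h.sq_eq_one_of_fixed hv') hz hv1 hz1)
    have hidx : f.range.index ≤ 2 := by
      have h1 := f.range.card_mul_index
      have h2 := f.ker.card_mul_index
      rw [Subgroup.index_ker] at h2
      have hpos : 0 < Nat.card f.range := Nat.card_pos
      have h3 : f.range.index * Nat.card f.range = Nat.card f.ker * Nat.card f.range := by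
        rw [mul_comm, h1, h2]
      rw [Nat.eq_of_mul_eq_mul_right hpos h3]
      exact hker
    have hkill : ∀ v ∈ f.range, l v = 1 := by
      rintro _ ⟨v, rfl⟩
      show l (h.sig v * v⁻¹) = 1
      rw [map_mul, map_inv, show l (h.sig v) = l v from DFunLike.congr_fun e v, mul_inv_cancel]
    have hsq : x₀ * x₀ ∈ f.range := by
      have hne := Subgroup.index_ne_zero_of_finite (H := f.range)
      rcases Nat.lt_or_ge f.range.index 2 with h5 | h5
      · have h6 : f.range.index = 1 := by omega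
        rw [Subgroup.index_eq_one.mp h6]; exact Subgroup.mem_top _
      · exact (Subgroup.mul_self_mem_of_index_two (by omega)) x₀
    have h4 : lc l x₀ * lc l x₀ = 1 := by
      rw [← lc_mul, lc, hkill _ hsq, Units.val_one]
    rcases mul_self_eq_one_iff.mp h4 with e4 | e4
    · exact hl1 (hext _ _ (Units.ext e4))
    · exact hlμ (hext _ _ (Units.ext (e4.trans hμx.symm)))
  obtain ⟨Y, Z, a, b, hYZ, ha, hb, hW⟩ := h.exists_wl_pair hμ1 hfix
  let f : (↥E →* ℂˣ) → IrrCharacter G := fun l =>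
    if hl : l ≠ 1 ∧ l ≠ μ then (h.exists_wl_irr hl.1 (hmv l hl.1 hl.2)).choose else χ
  have hf : ∀ l, l ≠ 1 → l ≠ μ → wl χ l = (f l : G → ℂ) := fun l h1 h2 => by
    simp only [f, dif_pos (And.intro h1 h2)]
    exact (h.exists_wl_irr h1 (hmv l h1 h2)).choose_spec
  set L : Finset (↥E →* ℂˣ) := (Finset.univ.erase 1).erase μ with hL
  have hLmem : ∀ l ∈ L, l ≠ 1 ∧ l ≠ μ := fun l hl => by
    simp only [hL, Finset.mem_erase] at hl
    exact ⟨hl.2.1, hl.1⟩
  set Xs := L.image f with hXs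
  have hfib : ∀ X ∈ Xs, (L.filter fun k => f k = X).card = 2 := by
    intro X hX
    obtain ⟨l, hl, rfl⟩ := Finset.mem_image.mp hX
    obtain ⟨hl1, hlμ⟩ := hLmem l hl
    have hset : (L.filter fun k => f k = f l) = {l, h.tw l} := by
      ext k
      simp only [Finset.mem_filter, Finset.mem_insert, Finset.mem_singleton]
      constructor
      · rintro ⟨hk, hfk⟩
        obtain ⟨hk1, hkμ⟩ := hLmem k hk
        have h1 := h.wl_inner hk1 hl1
        rw [hf k hk1 hkμ, hf l hl1 hlμ, hfk, irr_self (f l).2] at h1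
        by_contra hne
        push Not at hne
        rw [if_neg hne.1, if_neg hne.2, add_zero] at h1
        exact one_ne_zero h1
      · rintro (rfl | rfl)
        · exact ⟨hl, rfl⟩
        · have ht1 := h.tw_ne_one hl1
          have htμ : h.tw l ≠ μ := fun e => hlμ (by rw [← h.tw_tw l, e, hfix])
          refine ⟨by simp [hL, ht1, htμ], Subtype.ext ?_⟩
          rw [← hf _ ht1 htμ, ← hf l hl1 hlμ, h.wl_tw hl1 (hmv l hl1 hlμ)]
    rw [hset, Finset.card_pair (hmv l hl1 hlμ).symm]
  have hXsum : ∀ F : IrrCharacter G → ℂ, 2 * ∑ X ∈ Xs, F X = ∑ l ∈ L, F (f l) := by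
    intro F
    rw [show ∑ l ∈ L, F (f l) = ∑ X ∈ Xs, (L.filter fun k => f k = X).card • F X from Finset.sum_comp F f,
      Finset.mul_sum]
    exact Finset.sum_congr rfl fun X hX => by rw [hfib X hX, nsmul_eq_mul, Nat.cast_ofNat]
  -- the distinct characters
  let one : IrrCharacter G := ⟨fun _ => 1, isIrrCharacter_one⟩
  have hone : ((one : IrrCharacter G) : G → ℂ) = fun _ => 1 := rfl
  have haN : (a : ℂ) ≠ 0 := by rcases ha with e | e <;> rw [e] <;> norm_num
  have hbN : (b : ℂ) ≠ 0 := by rcases hb with e | e <;> rw [e] <;> norm_num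
  have hne : ∀ θ : IrrCharacter G, classInner (wl χ μ) (θ : G → ℂ) = 0 → θ ≠ Y ∧ θ ≠ Z := by
    intro θ h0
    rw [hW, classInner_add_left, classInner_smul_left, classInner_smul_left, irrC_orth, irrC_orth] at h0
    refine ⟨fun e => ?_, fun e => ?_⟩
    · subst e
      rw [if_pos rfl, if_neg (Ne.symm hYZ), mul_one, mul_zero, add_zero] at h0
      exact haN h0
    · subst e
      rw [if_neg hYZ, if_pos rfl, mul_one, mul_zero, zero_add] at h0
      exact hbN h0
  have h1YZ := hne one (h.wl_inner_one hμ1)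
  have hχYZ := hne χ (h.wl_inner_chi hμ1)
  have hXYZ : ∀ X ∈ Xs, X ≠ Y ∧ X ≠ Z := by
    intro X hX
    obtain ⟨l, hl, rfl⟩ := Finset.mem_image.mp hX
    obtain ⟨hl1, hlμ⟩ := hLmem l hl
    refine hne _ ?_
    rw [← hf l hl1 hlμ, h.wl_inner hμ1 hl1, if_neg hlμ.symm, if_neg, add_zero]
    intro e
    exact hlμ (by rw [← h.tw_tw l, ← e, hfix])
  have hXone : ∀ X ∈ Xs, X ≠ one ∧ X ≠ χ := by
    intro X hX
    obtain ⟨l, hl, rfl⟩ := Finset.mem_image.mp hX
    obtain ⟨hl1, hlμ⟩ := hLmem l hl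
    refine ⟨fun e => ?_, fun e => ?_⟩
    · have h0 := h.wl_inner_one hl1
      rw [hf l hl1 hlμ, e, hone, irr_self isIrrCharacter_one] at h0
      exact one_ne_zero h0
    · have h0 := h.wl_inner_chi hl1
      rw [hf l hl1 hlμ, e, irr_self χ.2] at h0
      exact one_ne_zero h0
  have h1χ : one ≠ χ := fun e => h.chi_ne_one (by rw [← e])
  set S : Finset (IrrCharacter G) := insert one (insert χ (insert Y (insert Z Xs))) with hS
  have hsumS : ∀ F : IrrCharacter G → ℂ, (∀ θ, θ ∉ S → F θ = 0) →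
      ∑ θ, F θ = F one + F χ + F Y + F Z + ∑ X ∈ Xs, F X := by
    intro F hF
    rw [← Finset.sum_subset (Finset.subset_univ S) fun θ _ hθ => hF θ hθ, hS, Finset.sum_insert,
      Finset.sum_insert, Finset.sum_insert, Finset.sum_insert]
    · ring
    · exact fun hm => (hXYZ Z hm).2 rfl
    · simp only [Finset.mem_insert, not_or]
      exact ⟨hYZ, fun hm => (hXYZ Y hm).1 rfl⟩
    · simp only [Finset.mem_insert, not_or]
      exact ⟨hχYZ.1, hχYZ.2, fun hm => (hXone χ hm).2 rfl⟩
    · simp only [Finset.mem_insert, not_or]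
      exact ⟨h1χ, h1YZ.1, h1YZ.2, fun hm => (hXone one hm).1 rfl⟩
  have hvan : ∀ θ, θ ∉ S → ∀ v : E, v ≠ 1 → (θ : G → ℂ) (v : G) = 0 := by
    intro θ hθ v hv
    simp only [hS, Finset.mem_insert, not_or] at hθ
    refine h.vanish_other θ (fun e => hθ.1 (Subtype.ext e)) hθ.2.1 (fun l hl => ?_) hv
    by_cases hlμ : l = μ
    · subst hlμ
      rw [hW, classInner_add_left, classInner_smul_left, classInner_smul_left, irrC_orth, irrC_orth,
        if_neg (Ne.symm hθ.2.2.1), if_neg (Ne.symm hθ.2.2.2.1)]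
      simp
    · rw [hf l hl hlμ, irrC_orth, if_neg]
      intro e
      exact hθ.2.2.2.2 (e ▸ Finset.mem_image_of_mem f (by simp [hL, hl, hlμ]))
  have hXval : ∀ l ∈ L, ∀ v : E, v ≠ 1 → (f l : G → ℂ) (v : G) = lc l v + lc l (h.sig v) := by
    intro l hl v hv
    obtain ⟨hl1, hlμ⟩ := hLmem l hl
    rw [← hf l hl1 hlμ, h.wl_coe l hv]
  have hLsum : ∀ F : (↥E →* ℂˣ) → ℂ, ∑ l ∈ L, F l = ∑ l, F l - F 1 - F μ := by
    intro F
    rw [hL, Finset.sum_erase_eq_sub (Finset.mem_erase.mpr ⟨hμ1, Finset.mem_univ _⟩),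
      Finset.sum_erase_eq_sub (Finset.mem_univ _)]
  have hall : ∀ v : E, ∑ l : ↥E →* ℂˣ, lc l v = if v = 1 then (Nat.card E : ℂ) else 0 :=
    fun v => sum_hom_apply hcE v
  have hμσ : ∀ v : E, lc μ (h.sig v) = lc μ v := fun v => congrArg (fun c : ↥E →* ℂˣ => lc c v) hfix
  -- values at an element `v`
  have hcol : ∀ v : E, v ≠ 1 →
      (Nat.card (Subgroup.centralizer ({(v : G)} : Set G)) : ℂ) =
        (if h.sig v = v then 2 * (Nat.card E : ℂ) else (Nat.card E : ℂ)) - 2 +
          ((Complex.normSq ((a : ℂ) * (Y : G → ℂ) (v : G)) : ℂ) +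
            (Complex.normSq ((b : ℂ) * (Z : G → ℂ) (v : G)) : ℂ)) := by
    intro v hv
    have h1 := second_orth (v : G) (v : G)
    rw [if_pos (IsConj.refl _), ← card_conjClass_mul_centralizer (v : G), Nat.cast_mul,
      mul_div_cancel_left₀ _ (Nat.cast_ne_zero.mpr (card_conjClass_ne_zero (v : G))),
      hsumS _ (fun θ hθ => by rw [hvan θ hθ v hv, zero_mul])] at h1
    have hX := hXsum fun θ => (θ : G → ℂ) (v : G) * conj ((θ : G → ℂ) (v : G))
    rw [Finset.sum_congr rfl (g := fun l => lc l (1 : E) + lc l (1 : E) + lc l (v * (h.sig v)⁻¹) +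
      lc l (h.sig v * v⁻¹)) fun l hl => ?_, hLsum] at hX
    swap
    · simp only [hXval l hl v hv, map_add, conj_lc]
      rw [lc_mul, lc_mul, lc_one]
      have e1 : ∀ w : E, lc l w * lc l w⁻¹ = 1 := fun w => by rw [← lc_mul, mul_inv_cancel, lc_one]
      linear_combination e1 v + e1 (h.sig v)
    simp only [Finset.sum_add_distrib, hall, if_true] at hX
    have e1 : ∀ w : E, lc (1 : ↥E →* ℂˣ) w = 1 := fun w => by simp [lc]
    have e2 : lc μ (v * (h.sig v)⁻¹) = 1 := by
      rw [lc_mul, ← conj_lc, hμσ, conj_lc, ← lc_mul, mul_inv_cancel, lc_one]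
    have e3 : lc μ (h.sig v * v⁻¹) = 1 := by
      rw [lc_mul, hμσ, ← lc_mul, mul_inv_cancel, lc_one]
    rw [e1, e1, e1, e2, e3, lc_one] at hX
    have haa : ((a : ℂ) * a) = 1 := by rcases ha with e | e <;> rw [e] <;> norm_num
    have hbb : ((b : ℂ) * b) = 1 := by rcases hb with e | e <;> rw [e] <;> norm_num
    rw [← Complex.mul_conj, ← Complex.mul_conj, map_mul, map_mul, map_intCast, map_intCast, ← h1,
      hone, h.valE v v.2 (fun e => hv (Subtype.ext e))]
    simp only [map_one, mul_one]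
    by_cases hs : h.sig v = v
    · have hs1 : v * (h.sig v)⁻¹ = 1 := by rw [hs, mul_inv_cancel]
      have hs2 : h.sig v * v⁻¹ = 1 := by rw [hs, mul_inv_cancel]
      rw [if_pos hs1, if_pos hs2] at hX
      rw [if_pos hs]
      linear_combination (1 / 2 : ℂ) * hX - ((Y : G → ℂ) (v : G) * conj ((Y : G → ℂ) (v : G))) * haa -
        ((Z : G → ℂ) (v : G) * conj ((Z : G → ℂ) (v : G))) * hbb
    · have hs1 : v * (h.sig v)⁻¹ ≠ 1 := fun e => hs (mul_inv_eq_one.mp e).symm
      have hs2 : h.sig v * v⁻¹ ≠ 1 := fun e => hs (mul_inv_eq_one.mp e)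
      rw [if_neg hs1, if_neg hs2] at hX
      rw [if_neg hs]
      linear_combination (1 / 2 : ℂ) * hX - ((Y : G → ℂ) (v : G) * conj ((Y : G → ℂ) (v : G))) * haa -
        ((Z : G → ℂ) (v : G) * conj ((Z : G → ℂ) (v : G))) * hbb
  -- the two splittings
  have hsplit : ∀ v : E, v ≠ 1 →
      (a : ℂ) * (Y : G → ℂ) (v : G) = lc μ v ∧ (b : ℂ) * (Z : G → ℂ) (v : G) = lc μ v := by
    intro v hv
    refine eq_half_of_normSq ?_ ?_ ?_
    · have := congrFun hW (v : G)
      rw [h.wl_coe μ hv, hμσ, Pi.add_apply, Pi.smul_apply, Pi.smul_apply, smul_eq_mul, smul_eq_mul] at this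
      linear_combination -this
    · rcases mul_self_eq_one_iff.mp (hpm v) with e | e <;> rw [e] <;> simp
    · have h1 := hcol v hv
      by_cases hv2 : v * v = 1
      · rw [if_pos (h.sig_fix_sq hv2), h.centralizer_eq_L hv2 hv, h.card_normalizer] at h1
        push_cast at h1
        exact_mod_cast (show ((Complex.normSq ((a : ℂ) * (Y : G → ℂ) (v : G)) +
          Complex.normSq ((b : ℂ) * (Z : G → ℂ) (v : G)) : ℝ) : ℂ) = ((2 : ℝ) : ℂ) by
            push_cast; linear_combination -h1)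
      · rw [if_neg (fun e => hv2 (h.sq_eq_one_of_fixed e)), h.centralizer_eq_E hv2] at h1
        exact_mod_cast (show ((Complex.normSq ((a : ℂ) * (Y : G → ℂ) (v : G)) +
          Complex.normSq ((b : ℂ) * (Z : G → ℂ) (v : G)) : ℝ) : ℂ) = ((2 : ℝ) : ℂ) by
            push_cast; linear_combination -h1)
  -- degrees
  refine ⟨a * deg (Y : G → ℂ), b * deg (Z : G → ℂ), ?_, ?_, ?_, ?_⟩
  · have h1 := congrFun hW 1
    rw [h.wl_apply_one, Pi.add_apply, Pi.smul_apply, Pi.smul_apply, smul_eq_mul, smul_eq_mul,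
      char_one_eq_deg (irr_isCharacter Y.2), char_one_eq_deg (irr_isCharacter Z.2)] at h1
    exact_mod_cast h1.symm
  rotate_left 2
  · -- the sum
    rw [hsumS _ (fun θ hθ => by rw [hvan θ hθ z hz1, zero_mul, zero_div, mul_zero]), hone,
      h.valE x₀ x₀.2 (fun e => hx01 (Subtype.ext e)), h.valE z z.2 (fun e => hz1 (Subtype.ext e)), h.deg_eq]
    have hX := hXsum fun θ => conj ((θ : G → ℂ) (x₀ : G)) * ((θ : G → ℂ) (z : G) * (θ : G → ℂ) (z : G) / (θ : G → ℂ) 1)
    rw [Finset.sum_congr rfl (g := fun l => (4 / ((p : ℂ) + 1)) * (lc l x₀⁻¹ + lc l (h.sig x₀)⁻¹)) fun l hl => ?_,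
      ← Finset.mul_sum, hLsum] at hX
    swap
    · obtain ⟨hl1, hlμ⟩ := hLmem l hl
      rw [← hf l hl1 hlμ, h.wl_apply_one, h.wl_coe l hx01, h.wl_coe l hz1, h.sig_fix_sq hz, map_add,
        conj_lc, conj_lc]
      have e1 : lc l z * lc l z = 1 := by rw [← lc_mul, hz, lc_one]
      have hp1 : (p : ℂ) + 1 ≠ 0 := by exact_mod_cast Nat.succ_ne_zero p
      field_simp
      linear_combination 4 * (lc l x₀⁻¹ + lc l (h.sig x₀)⁻¹) * e1
    have hsx : (h.sig x₀)⁻¹ ≠ 1 := fun e => hx01 (by
      rw [← h.sig_sig x₀, inv_eq_one.mp e, map_one])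
    have hμi : lc μ x₀⁻¹ = -1 := by rw [← conj_lc, hμx]; simp
    have hμi' : lc μ (h.sig x₀)⁻¹ = -1 := by rw [← conj_lc, hμσ, hμx]; simp
    rw [Finset.sum_add_distrib, hall, hall, if_neg (by simpa using hx01), if_neg hsx, hμi, hμi'] at hX
    have hX0 : ∑ θ ∈ Xs, conj ((θ : G → ℂ) (x₀ : G)) *
        ((θ : G → ℂ) (z : G) * (θ : G → ℂ) (z : G) / (θ : G → ℂ) 1) = 0 := by
      have e1 : ∀ w : E, lc (1 : ↥E →* ℂˣ) w = 1 := fun w => by simp [lc]
      rw [e1, e1] at hX
      norm_num at hX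
      exact hX
    rw [hX0]
    have hterm : ∀ (c : ℤ) (T : IrrCharacter G), (c = 1 ∨ c = -1) →
        (c : ℂ) * (T : G → ℂ) (x₀ : G) = lc μ x₀ → (c : ℂ) * (T : G → ℂ) (z : G) = lc μ z →
        conj ((T : G → ℂ) (x₀ : G)) * ((T : G → ℂ) (z : G) * (T : G → ℂ) (z : G) / (T : G → ℂ) 1) =
          -(((c * (deg (T : G → ℂ) : ℤ)) : ℤ) : ℂ)⁻¹ := by
      intro c T hc hx hzv
      have hd0 : (deg (T : G → ℂ) : ℂ) ≠ 0 := Nat.cast_ne_zero.mpr (deg_pos T.2).ne'
      rw [char_one_eq_deg (irr_isCharacter T.2)]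
      rw [hμx] at hx
      have hz2 := hpm z
      rcases hc with e | e <;> subst e <;> push_cast at hx hzv ⊢
      · rw [one_mul] at hx hzv
        rw [hx, hzv, hz2]
        simp
      · rw [neg_one_mul, neg_eq_iff_eq_neg] at hx hzv
        rw [hx, hzv, neg_mul_neg, hz2]
        simp
    rw [hterm a Y ha (hsplit x₀ hx01).1 (hsplit z hz1).1, hterm b Z hb (hsplit x₀ hx01).2 (hsplit z hz1).2]
    simp only [map_one]
    ring
  all_goals
    have hbig : ∀ (T : IrrCharacter G) (c : ℤ), (c = 1 ∨ c = -1) → T ≠ one →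
        (c * (deg (T : G → ℂ) : ℤ) ≤ -2 ∨ 2 ≤ c * (deg (T : G → ℂ) : ℤ)) := by
      intro T c hc hT
      have hd : deg (T : G → ℂ) ≠ 1 := fun e1 => hT (by
        obtain ⟨d, ρ, hρ, hχ⟩ := id T.2
        refine Subtype.ext (funext fun g => ?_)
        obtain ⟨φ, hφ⟩ := exists_hom_of_degree_one (irr_isCharacter T.2)
          (by rw [char_one_eq_deg (irr_isCharacter T.2), e1, Nat.cast_one])
        have : φ g = 1 := by
          have hk := Abelianization.commutator_subset_ker φ
          rw [h.perfect] at hk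
          exact hk (Subgroup.mem_top g)
        rw [congrFun hφ g, this, Units.val_one])
      have := deg_pos T.2
      rcases hc with e | e <;> subst e <;> omega
    first
      | exact hbig Y a ha h1YZ.1.symm
      | exact hbig Z b hb h1YZ.2.symm

open scoped _root_.Classical in
/-- In the even case the degree is below seven. -/
theorem even_lt_seven (h : Ctx p n P E u χ) (he : Even (Nat.card E)) (H : Subgroup G) (hidx : H.index = p)
    (hLH : Subgroup.normalizer (E : Set G) ≤ H)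
    (hfixH : ∀ z ∈ E, z ≠ 1 → z * z = 1 → ∀ g : G, g * z * g⁻¹ ∈ H → g ∈ H)
    (hbig : 2 * (p + 1) ≤ Nat.card H) : p < 7 := by
  by_contra hp7
  push Not at hp7
  letI : Fintype E := Fintype.ofFinite _
  haveI := h.cyc
  obtain ⟨x₀, hgen⟩ := IsCyclic.exists_generator (α := E)
  haveI : Fact (Nat.Prime 2) := ⟨Nat.prime_two⟩
  obtain ⟨z, hzo⟩ := exists_prime_orderOf_dvd_card' (G := E) 2 (even_iff_two_dvd.mp he)
  have hz : z * z = 1 := by rw [← pow_two, ← hzo, pow_orderOf_eq_one]
  have hz1 : z ≠ 1 := fun e => by rw [e, orderOf_one] at hzo; omega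
  have hx01 : x₀ ≠ 1 := fun e => hz1 (by
    have := hgen z
    rw [e, Subgroup.zpowers_one_eq_bot, Subgroup.mem_bot] at this
    exact this)
  obtain ⟨A, B, hAB, hA, hB, hsum⟩ := h.exists_even_data hgen hz hz1
  set R := (Finset.univ : Finset (G × G)).filter fun t =>
    t.1 * (z : G) * t.1⁻¹ * (t.2 * (z : G) * t.2⁻¹) = (x₀ : G) with hR
  have hcount := Small.StructureConstantTwo.pairs_formula (z : G) (x₀ : G)
  rw [← hR, hsum] at hcount
  have hA0 : A ≠ 0 := by omega
  have hB0 : B ≠ 0 := by omega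
  have hGH : Nat.card G = p * Nat.card H := by rw [← hidx, H.index_mul_card]
  have hkey : (R.card : ℤ) * (A * B) = (Nat.card H : ℤ) * (((p : ℤ) + 1) * (A * B - p)) := by
    have hp0 : (p : ℂ) ≠ 0 := Nat.cast_ne_zero.mpr h.hp.ne_zero
    have hA' : (A : ℂ) ≠ 0 := Int.cast_ne_zero.mpr hA0
    have hB' : (B : ℂ) ≠ 0 := Int.cast_ne_zero.mpr hB0
    have hAB' : (A : ℂ) + B = (p : ℂ) + 1 := by exact_mod_cast hAB
    have : (((R.card : ℤ) * (A * B) : ℤ) : ℂ) =
        (((Nat.card H : ℤ) * (((p : ℤ) + 1) * (A * B - p)) : ℤ) : ℂ) := by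
      push_cast
      rw [hcount, hGH, Nat.cast_mul]
      field_simp
      linear_combination -(p : ℂ) * hAB'
    exact_mod_cast this
  -- the constituents of a product lie in the normaliser
  have hmem : ∀ t ∈ R, t.1 * (z : G) * t.1⁻¹ ∈ Subgroup.normalizer (E : Set G) ∧
      t.1 ∈ H ∧ t.2 ∈ H := by
    intro t ht
    have e := (Finset.mem_filter.mp ht).2
    set a := t.1 * (z : G) * t.1⁻¹ with ha
    set b := t.2 * (z : G) * t.2⁻¹ with hb
    have haa : a * a = 1 := by
      rw [ha, show t.1 * (z : G) * t.1⁻¹ * (t.1 * (z : G) * t.1⁻¹) = t.1 * ((z : G) * z) * t.1⁻¹ by group,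
        ← Subgroup.coe_mul, hz, OneMemClass.coe_one, mul_one, mul_inv_cancel]
    have hbb : b * b = 1 := by
      rw [hb, show t.2 * (z : G) * t.2⁻¹ * (t.2 * (z : G) * t.2⁻¹) = t.2 * ((z : G) * z) * t.2⁻¹ by group,
        ← Subgroup.coe_mul, hz, OneMemClass.coe_one, mul_one, mul_inv_cancel]
    have hinv : a * (x₀ : G) * a⁻¹ = (x₀ : G)⁻¹ := by
      calc a * (x₀ : G) * a⁻¹ = a * a * b * a⁻¹ := by rw [← e, ← mul_assoc]
        _ = b⁻¹ * a⁻¹ := by rw [haa, one_mul, inv_eq_of_mul_eq_one_right hbb]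
        _ = (a * b)⁻¹ := (_root_.mul_inv_rev a b).symm
        _ = (x₀ : G)⁻¹ := by rw [e]
    have haL : a ∈ Subgroup.normalizer (E : Set G) :=
      h.ti a x₀ x₀.2 (fun e1 => hx01 (Subtype.ext e1)) (by rw [hinv]; exact inv_mem x₀.2)
    have hbL : b ∈ Subgroup.normalizer (E : Set G) := by
      rw [show b = a⁻¹ * (x₀ : G) by rw [← e, inv_mul_cancel_left]]
      exact mul_mem (inv_mem haL) (Subgroup.le_normalizer x₀.2)
    have hz1' : (z : G) ≠ 1 := fun e1 => hz1 (Subtype.ext e1)
    have hzz : (z : G) * z = 1 := by rw [← Subgroup.coe_mul, hz, OneMemClass.coe_one]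
    exact ⟨haL, hfixH z z.2 hz1' hzz t.1 (hLH haL), hfixH z z.2 hz1' hzz t.2 (hLH hbL)⟩
  have hp1 : (7 : ℤ) ≤ p := by exact_mod_cast hp7
  -- lower bound
  have hlow : (Nat.card H : ℤ) * (((p : ℤ) + 1) * ((p : ℤ) - 2)) ≤ 2 * ((p : ℤ) - 1) * R.card := by
    have hH0 : (0 : ℤ) ≤ Nat.card H := Int.natCast_nonneg _
    have hc : A * B < 0 ∨ 2 * ((p : ℤ) - 1) ≤ A * B := by
      rcases hA with hA | hA <;> rcases hB with hB | hB
      · omega
      · left; nlinarith
      · left; nlinarith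
      · right; nlinarith
    rcases hc with hc | hc
    · by_contra hlt
      push Not at hlt
      have h5 := mul_lt_mul_of_neg_right hlt hc
      have h6 := congrArg (fun x => 2 * ((p : ℤ) - 1) * x) hkey
      nlinarith [h5, h6, mul_nonneg (mul_nonneg (mul_nonneg hH0 (show (0 : ℤ) ≤ (p : ℤ) + 1 by omega))
        (show (0 : ℤ) ≤ p by omega)) (show (0 : ℤ) ≤ 2 * ((p : ℤ) - 1) - A * B by omega)]
    · by_contra hlt
      push Not at hlt
      have h5 := mul_lt_mul_of_pos_right hlt (show (0 : ℤ) < A * B by omega)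
      have h6 := congrArg (fun x => 2 * ((p : ℤ) - 1) * x) hkey
      nlinarith [h5, h6, mul_nonneg (mul_nonneg (mul_nonneg hH0 (show (0 : ℤ) ≤ (p : ℤ) + 1 by omega))
        (show (0 : ℤ) ≤ p by omega)) (show (0 : ℤ) ≤ A * B - 2 * ((p : ℤ) - 1) by omega)]
  have he2 := h.two_le
  rcases Nat.lt_or_ge 2 (Nat.card E) with he4 | he4
  · -- a generator has order above two
    have hx2 : x₀ * x₀ ≠ 1 := fun e => by
      have h1 := orderOf_eq_card_of_forall_mem_zpowers hgen
      have h2 : orderOf x₀ ≤ 2 := Nat.le_of_dvd two_pos (orderOf_dvd_of_pow_eq_one (by rw [pow_two, e]))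
      omega
    have hup : Nat.card H * R.card ≤ Nat.card E * (Nat.card H * Nat.card H) := by
      have hcH : ∀ K : Subgroup G, (Finset.univ.filter fun g : G => g ∈ K).card = Nat.card K := fun K => by
        rw [← Fintype.card_subtype, ← Nat.card_eq_fintype_card]
      set Hs := Finset.univ.filter fun g : G => g ∈ H with hHs
      rw [show Nat.card H * R.card = (Hs ×ˢ R).card by rw [Finset.card_product, hHs, hcH],
        show Nat.card E * (Nat.card H * Nat.card H) = Nat.card E * (Hs ×ˢ Hs).card by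
          rw [Finset.card_product, hHs, hcH]]
      refine Finset.card_le_mul_card_image_of_maps_to
        (f := fun q : G × (G × G) => (q.1 * q.2.1, q.1 * q.2.2)) (fun q hq => ?_) _ fun w _ => ?_
      · obtain ⟨h1, h2⟩ := Finset.mem_product.mp hq
        obtain ⟨-, h3, h4⟩ := hmem _ h2
        have h1' := (Finset.mem_filter.mp h1).2
        exact Finset.mem_product.mpr ⟨Finset.mem_filter.mpr ⟨Finset.mem_univ _, mul_mem h1' h3⟩,
          Finset.mem_filter.mpr ⟨Finset.mem_univ _, mul_mem h1' h4⟩⟩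
      · rcases ((Hs ×ˢ R).filter fun q : G × (G × G) => (q.1 * q.2.1, q.1 * q.2.2) = w).eq_empty_or_nonempty
          with e0 | ⟨⟨k, s, t⟩, hk⟩
        · rw [e0, Finset.card_empty]; exact Nat.zero_le _
        rw [← hcH E]
        refine Finset.card_le_card_of_injOn (fun q : G × (G × G) => k⁻¹ * q.1) ?_ ?_
        · rintro ⟨k', s', t'⟩ hk'
          simp only [Finset.coe_filter, Set.mem_ofPred_eq, Finset.mem_product, Finset.mem_univ, true_and] at hk' ⊢
          simp only [Finset.mem_filter, Finset.mem_product] at hk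
          have e1 := (Finset.mem_filter.mp hk'.1.2).2
          have e2 := (Finset.mem_filter.mp hk.1.2).2
          have e3 : k' * (x₀ : G) * k'⁻¹ = k * (x₀ : G) * k⁻¹ := by
            have hw1 : k' * s' = k * s := congrArg Prod.fst (hk'.2.trans hk.2.symm)
            have hw2 : k' * t' = k * t := congrArg Prod.snd (hk'.2.trans hk.2.symm)
            nth_rw 1 [← e1]
            rw [← e2, show s' = k'⁻¹ * (k * s) by rw [← hw1]; group, show t' = k'⁻¹ * (k * t) by rw [← hw2]; group]
            group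
          rw [← h.centralizer_eq_E hx2, Subgroup.mem_centralizer_singleton_iff]
          calc k⁻¹ * k' * (x₀ : G) = k⁻¹ * (k' * (x₀ : G) * k'⁻¹) * k' := by group
            _ = (x₀ : G) * (k⁻¹ * k') := by rw [e3]; group
        · rintro ⟨k', s', t'⟩ hk' ⟨k'', s'', t''⟩ hk'' e1
          simp only [Finset.coe_filter, Set.mem_ofPred_eq] at hk' hk''
          have hkk : k' = k'' := mul_left_cancel e1
          subst hkk
          have hw1 := congrArg Prod.fst (hk'.2.trans hk''.2.symm)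
          have hw2 := congrArg Prod.snd (hk'.2.trans hk''.2.symm)
          rw [mul_left_cancel hw1, mul_left_cancel hw2]
    have hH0 : 0 < Nat.card H := Nat.card_pos
    have hup' : R.card ≤ Nat.card E * Nat.card H := by
      refine Nat.le_of_mul_le_mul_left ?_ hH0
      rw [mul_left_comm]
      exact hup
    have hne : 2 * Nat.card E + 1 ≤ p := by
      have hn2 : 2 ≤ n := by
        have := Nat.even_iff.mp h.n_even
        have : n ≠ 0 := fun e0 => by have := h.p_eq; rw [e0] at this; omega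
        omega
      have := h.p_eq
      have := Nat.mul_le_mul_right (Nat.card E) hn2
      omega
    have hup'' : (R.card : ℤ) ≤ (Nat.card E : ℤ) * Nat.card H := by exact_mod_cast hup'
    have hne' : 2 * (Nat.card E : ℤ) + 1 ≤ p := by exact_mod_cast hne
    have hH1 : (0 : ℤ) < Nat.card H := by exact_mod_cast hH0
    nlinarith [mul_le_mul_of_nonneg_left hup'' (show (0 : ℤ) ≤ 2 * ((p : ℤ) - 1) by omega),
      mul_le_mul_of_nonneg_left hne' (show (0 : ℤ) ≤ (Nat.card H : ℤ) * ((p : ℤ) - 1) from mul_nonneg hH1.le (by omega))]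
  · -- four elements in the normaliser
    have hC := h.centralizer_eq_L hz hz1
    have hL4 : Nat.card (Subgroup.normalizer (E : Set G)) = 4 := by rw [h.card_normalizer]; omega
    have hLc : (Finset.univ.filter fun g : G => g ∈ Subgroup.normalizer (E : Set G)).card = 4 := by
      rw [← Fintype.card_subtype, ← Nat.card_eq_fintype_card]; exact hL4
    have hx0z : x₀ = z := by
      have h1 : x₀ * x₀ = 1 := by
        have h2 : x₀ ^ Nat.card E = 1 := pow_card_eq_one'
        rwa [show Nat.card E = 2 by omega, pow_two] at h2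
      exact h.sq_eq_one_unique h1 hz hx01 hz1
    set Ls := Finset.univ.filter fun g : G => g ∈ Subgroup.normalizer (E : Set G) with hLs
    set U := (Ls.erase 1).erase (z : G) with hU
    have hUc : U.card ≤ 2 := by
      have h1 : (1 : G) ∈ Ls := Finset.mem_filter.mpr ⟨Finset.mem_univ _, one_mem _⟩
      have h2 : (z : G) ∈ Ls.erase 1 := Finset.mem_erase.mpr
        ⟨fun e1 => hz1 (Subtype.ext e1), Finset.mem_filter.mpr ⟨Finset.mem_univ _, Subgroup.le_normalizer z.2⟩⟩
      rw [hU, Finset.card_erase_of_mem h2, Finset.card_erase_of_mem h1, hLc]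
    have hup : R.card ≤ 16 * U.card := by
      refine Finset.card_le_mul_card_image_of_maps_to (f := fun t : G × G => t.1 * (z : G) * t.1⁻¹)
        (fun t ht => ?_) _ fun w _ => ?_
      · obtain ⟨h1, -, -⟩ := hmem t ht
        have e := (Finset.mem_filter.mp ht).2
        rw [hx0z] at e
        refine Finset.mem_erase.mpr ⟨fun e1 => ?_, Finset.mem_erase.mpr ⟨fun e1 => ?_, Finset.mem_filter.mpr ⟨Finset.mem_univ _, h1⟩⟩⟩
        · rw [e1, mul_eq_left] at e
          exact hz1 (Subtype.ext (conj_eq_one_iff.mp e))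
        · exact hz1 (Subtype.ext (conj_eq_one_iff.mp e1))
      · rcases (R.filter fun t : G × G => t.1 * (z : G) * t.1⁻¹ = w).eq_empty_or_nonempty with e0 | ⟨⟨s, t⟩, hst⟩
        · rw [e0, Finset.card_empty]; exact Nat.zero_le _
        rw [show 16 = (Ls ×ˢ Ls).card by rw [Finset.card_product, hLc]]
        refine Finset.card_le_card_of_injOn (fun q : G × G => (s⁻¹ * q.1, t⁻¹ * q.2)) ?_ ?_
        · rintro ⟨s', t'⟩ hq
          obtain ⟨hq1, hq2⟩ := Finset.mem_filter.mp hq
          obtain ⟨hs1, hs2⟩ := Finset.mem_filter.mp hst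
          have e1 := (Finset.mem_filter.mp hq1).2
          have e2 := (Finset.mem_filter.mp hs1).2
          simp only at hq2 hs2 e1 e2
          have hfst : s' * (z : G) * s'⁻¹ = s * z * s⁻¹ := hq2.trans hs2.symm
          have hsnd : t' * (z : G) * t'⁻¹ = t * z * t⁻¹ := by
            have h3 := e1.trans e2.symm
            rw [hfst] at h3
            exact mul_left_cancel h3
          have key : ∀ a b : G, b * (z : G) * b⁻¹ = a * z * a⁻¹ → a⁻¹ * b ∈ Ls := fun a b e3 => by
            refine Finset.mem_filter.mpr ⟨Finset.mem_univ _, ?_⟩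
            rw [← hC, Subgroup.mem_centralizer_singleton_iff]
            calc a⁻¹ * b * (z : G) = a⁻¹ * (b * (z : G) * b⁻¹) * b := by group
              _ = (z : G) * (a⁻¹ * b) := by rw [e3]; group
          exact Finset.mem_product.mpr ⟨key s s' hfst, key t t' hsnd⟩
        · rintro ⟨a1, a2⟩ - ⟨b1, b2⟩ - e1
          rw [Prod.mk.injEq] at e1
          exact Prod.ext (mul_left_cancel e1.1) (mul_left_cancel e1.2)
    have hR32 : (R.card : ℤ) ≤ 32 := by
      have : R.card ≤ 32 := by omega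
      exact_mod_cast this
    have hbig' : 2 * ((p : ℤ) + 1) ≤ Nat.card H := by exact_mod_cast hbig
    nlinarith [mul_le_mul_of_nonneg_right hbig' (show (0 : ℤ) ≤ ((p : ℤ) + 1) * ((p : ℤ) - 2) from mul_nonneg (by omega) (by omega)),
      mul_le_mul_of_nonneg_left hR32 (show (0 : ℤ) ≤ 2 * ((p : ℤ) - 1) by omega),
      mul_le_mul_of_nonneg_left hp1 (show (0 : ℤ) ≤ (p : ℤ) by omega)]

end Cfsg.Agent.Char.UniqueP.Ctx
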