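import Cfsg.Agent.Lib.Char.UniqueP.Local
import Cfsg.Agent.Lib.Char.Central
import Cfsg.Agent.Lib.Fusion.TransferPow
import Mathlib

/-!
# The group-theoretic setting: a TI complement of index two in its normaliser
-/

set_option autoImplicit false
set_option linter.unusedSectionVars false
set_option linter.style.haveILetI false

namespace Cfsg.Agent.Char.UniqueP

open Cfsg

universe u

/-- The standing hypotheses. -/
structure Ctx {G : Type u} [Group G] [Fintype G] (p n : ℕ) (P E : Subgroup G) (u : G)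
    (χ : IrrCharacter G) : Prop extends Loc p P E where
  p5 : 5 ≤ p
  centP : ∀ y ∈ P, y ≠ 1 → Subgroup.centralizer ({y} : Set G) = P
  sylow : ¬ p ^ 2 ∣ Nat.card G
  two_le : 2 ≤ Nat.card E
  n_even : Even n
  p_eq : p = n * Nat.card E + 1
  cyc : IsCyclic E
  hu : u ∈ Subgroup.normalizer (E : Set G)
  hu' : u ∉ E
  hL : ∀ q ∈ Subgroup.normalizer (E : Set G), q ∈ E ∨ q * u⁻¹ ∈ E
  ti : ∀ g : G, ∀ x ∈ E, x ≠ 1 → g * x * g⁻¹ ∈ E → g ∈ Subgroup.normalizer (E : Set G)
  perfect : commutator G = ⊤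
  simple : IsSimpleGroup G
  deg_eq : (χ : G → ℂ) 1 = p
  uniq : ∀ ψ : IrrCharacter G, (ψ : G → ℂ) 1 = p → ψ = χ
  valE : ∀ x ∈ E, x ≠ 1 → (χ : G → ℂ) x = 1
  valP : ∀ y ∈ P, y ≠ 1 → (χ : G → ℂ) y = 0

namespace Ctx

variable {G : Type u} [Group G] [Fintype G] {p n : ℕ} {P E : Subgroup G} {u : G} {χ : IrrCharacter G}

theorem conj_mem (h : Ctx p n P E u χ) {q : G} (hq : q ∈ Subgroup.normalizer (E : Set G)) {x : G}
    (hx : x ∈ E) : q * x * q⁻¹ ∈ E :=
  (Subgroup.mem_normalizer_iff.mp hq x).mp hx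

/-- Conjugation by `u` on `E`. -/
def sig (h : Ctx p n P E u χ) : ↥E →* ↥E where
  toFun x := ⟨u * x * u⁻¹, h.conj_mem h.hu x.2⟩
  map_one' := Subtype.ext (by simp)
  map_mul' a b := Subtype.ext (by simp [mul_assoc])

theorem coe_sig (h : Ctx p n P E u χ) (x : E) : ((h.sig x : E) : G) = u * x * u⁻¹ := rfl

theorem u_sq (h : Ctx p n P E u χ) : u * u ∈ E := by
  rcases h.hL (u * u) (mul_mem h.hu h.hu) with h1 | h1
  · exact h1
  · rw [mul_inv_cancel_right] at h1
    exact absurd h1 h.hu'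

theorem sig_sig (h : Ctx p n P E u χ) (x : E) : h.sig (h.sig x) = x := by
  refine Subtype.ext ?_
  rw [coe_sig, coe_sig, show u * (u * (x : G) * u⁻¹) * u⁻¹ = (u * u) * x * (u * u)⁻¹ by group,
    h.comm _ h.u_sq _ x.2, mul_inv_cancel_right]

theorem sig_bijective (h : Ctx p n P E u χ) : Function.Bijective h.sig :=
  Function.Involutive.bijective h.sig_sig

theorem conj_eq (h : Ctx p n P E u χ) {q : G} (hq : q ∈ Subgroup.normalizer (E : Set G)) (hqE : q ∉ E)
    (x : E) : q * (x : G) * q⁻¹ = h.sig x := by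
  rcases h.hL q hq with h1 | h1
  · exact absurd h1 hqE
  · rw [coe_sig, show q * (x : G) * q⁻¹ = (q * u⁻¹) * (u * x * u⁻¹) * (q * u⁻¹)⁻¹ by group,
      h.comm _ h1 _ (h.conj_mem h.hu x.2), mul_inv_cancel_right]

/-- Elements squaring to one in the cyclic group `E` are few. -/
theorem sq_eq_one_unique (h : Ctx p n P E u χ) {a b : E} (ha : a * a = 1) (hb : b * b = 1)
    (ha1 : a ≠ 1) (hb1 : b ≠ 1) : a = b := by
  classical
  haveI := h.cyc
  haveI : Fintype E := Fintype.ofFinite _
  have hle := IsCyclic.card_pow_eq_one_le (α := E) (n := 2) two_pos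
  by_contra hne
  have : ({1, a, b} : Finset E) ⊆ Finset.univ.filter fun x => x ^ 2 = 1 := by
    intro x hx
    simp only [Finset.mem_insert, Finset.mem_singleton] at hx
    rcases hx with rfl | rfl | rfl <;> simp [pow_two, ha, hb]
  have h3 := Finset.card_le_card this
  rw [Finset.card_eq_three.mpr ⟨1, a, b, Ne.symm ha1, Ne.symm hb1, hne, rfl⟩] at h3
  omega

theorem sig_fix_sq (h : Ctx p n P E u χ) {a : E} (ha : a * a = 1) : h.sig a = a := by
  by_cases ha1 : a = 1
  · rw [ha1, map_one]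
  · refine h.sq_eq_one_unique (by rw [← map_mul, ha, map_one]) ha (fun e => ha1 ?_) ha1
    rw [← h.sig_sig a, e, map_one]

/-- The transfer into `E` from its normaliser. -/
noncomputable def fold (h : Ctx p n P E u χ) (q : Subgroup.normalizer (E : Set G)) : E := by
  classical
  exact if hq : (q : G) ∈ E then ⟨q, hq⟩ * h.sig ⟨q, hq⟩ else
    ⟨(q : G) * q, by
      rcases h.hL q q.2 with h1 | h1
      · exact absurd h1 hq
      · have : (q : G) * q = (q * u⁻¹) * (u * (q * u⁻¹) * u⁻¹) * (u * u) := by group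
        rw [this]
        exact mul_mem (mul_mem h1 (h.conj_mem h.hu h1)) h.u_sq⟩

theorem fold_mem (h : Ctx p n P E u χ) {q : Subgroup.normalizer (E : Set G)} (hq : (q : G) ∈ E) :
    (h.fold q : G) = (q : G) * (h.sig ⟨q, hq⟩ : E) := by
  rw [fold, dif_pos hq]; rfl

theorem fold_not_mem (h : Ctx p n P E u χ) {q : Subgroup.normalizer (E : Set G)} (hq : (q : G) ∉ E) :
    (h.fold q : G) = (q : G) * q := by
  rw [fold, dif_neg hq]

theorem mul_not_mem (h : Ctx p n P E u χ) {a b : G} (ha : a ∈ Subgroup.normalizer (E : Set G))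
    (hb : b ∈ Subgroup.normalizer (E : Set G)) (hae : a ∉ E) (hbe : b ∉ E) : a * b ∈ E := by
  rcases h.hL a ha with h1 | h1
  · exact absurd h1 hae
  rcases h.hL b hb with h2 | h2
  · exact absurd h2 hbe
  have : a * b = (a * u⁻¹) * (u * (b * u⁻¹) * u⁻¹) * (u * u) := by group
  rw [this]
  exact mul_mem (mul_mem h1 (h.conj_mem h.hu h2)) h.u_sq

theorem fold_mul (h : Ctx p n P E u χ) (a b : Subgroup.normalizer (E : Set G)) :
    h.fold (a * b) = h.fold a * h.fold b := by
  refine Subtype.ext ?_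
  rw [Subgroup.coe_mul]
  by_cases ha : (a : G) ∈ E
  · by_cases hb : (b : G) ∈ E
    · rw [h.fold_mem (mul_mem ha hb), h.fold_mem ha, h.fold_mem hb]
      rw [show (⟨((a * b : Subgroup.normalizer (E : Set G)) : G), mul_mem ha hb⟩ : E) = ⟨a, ha⟩ * ⟨b, hb⟩
        from rfl, map_mul, Subgroup.coe_mul, Subgroup.coe_mul, mul_assoc, mul_assoc,
        ← mul_assoc (b : G), h.comm _ hb _ (h.sig ⟨a, ha⟩).2, mul_assoc]
    · have hab : ((a * b : Subgroup.normalizer (E : Set G)) : G) ∉ E := fun hc =>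
        hb (by simpa using mul_mem (inv_mem ha) hc)
      rw [h.fold_not_mem hab, h.fold_mem ha, h.fold_not_mem hb, ← h.conj_eq b.2 hb ⟨a, ha⟩,
        Subgroup.coe_mul]
      group
  · by_cases hb : (b : G) ∈ E
    · have hab : ((a * b : Subgroup.normalizer (E : Set G)) : G) ∉ E := fun hc =>
        ha (by simpa using mul_mem hc (inv_mem hb))
      rw [h.fold_not_mem hab, h.fold_not_mem ha, h.fold_mem hb]
      have haa : (a : G) * a ∈ E := h.mul_not_mem a.2 a.2 ha ha
      have h1 : (b : G) * (h.sig ⟨b, hb⟩ : E) = (h.sig ⟨b, hb⟩ : E) * (b : G) :=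
        h.comm _ hb _ (h.sig ⟨b, hb⟩).2
      rw [h1, ← h.conj_eq a.2 ha ⟨b, hb⟩, Subgroup.coe_mul]
      show (a : G) * b * (a * b) = a * a * (a * b * (a : G)⁻¹ * b)
      rw [show (a : G) * a * (a * b * (a : G)⁻¹ * b) =
        ((a : G) * a) * (a * b * (a : G)⁻¹) * b by group,
        h.comm _ haa _ (h.conj_mem a.2 hb)]
      group
    · have hab : (a : G) * b ∈ E := h.mul_not_mem a.2 b.2 ha hb
      rw [h.fold_mem (q := a * b) hab, h.fold_not_mem ha, h.fold_not_mem hb]
      show (a : G) * b * ((h.sig ⟨(a : G) * b, hab⟩ : E) : G) = a * a * (b * b)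
      rw [← h.conj_eq a.2 ha ⟨(a : G) * b, hab⟩]
      show (a : G) * b * (a * (a * b) * (a : G)⁻¹) = a * a * (b * b)
      have hba : (b : G) * a ∈ E := h.mul_not_mem b.2 a.2 hb ha
      have hbb : (b : G) * b ∈ E := h.mul_not_mem b.2 b.2 hb hb
      calc (a : G) * b * (a * (a * b) * (a : G)⁻¹) = a * ((b * a) * ((a : G) * b)) * (a : G)⁻¹ := by group
        _ = a * (((a : G) * b) * (b * a)) * (a : G)⁻¹ := by rw [h.comm _ hba _ hab]
        _ = a * a * (b * b) := by group

/-- No element of `E` of order above two commutes with `u`. -/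
theorem sq_eq_one_of_fixed (h : Ctx p n P E u χ) {v : E} (hv : h.sig v = v) : v * v = 1 := by
  classical
  by_contra hv2
  -- a power of prime order, or of order four
  obtain ⟨l, k, hl, hk, hdiv⟩ : ∃ l k : ℕ, l.Prime ∧ 3 ≤ l ^ k ∧ l ^ k ∣ orderOf v := by
    have h2 : 2 < orderOf v := by
      rcases Nat.lt_or_ge 2 (orderOf v) with h3 | h3
      · exact h3
      exfalso
      apply hv2
      have hpos := orderOf_pos v
      interval_cases hh : orderOf v
      · rw [orderOf_eq_one_iff] at hh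
        rw [hh, one_mul]
      · rw [← pow_two, ← hh, pow_orderOf_eq_one]
    rcases Nat.four_dvd_or_exists_odd_prime_and_dvd_of_two_lt h2 with h4 | ⟨l, hl, hd, hodd⟩
    · exact ⟨2, 2, Nat.prime_two, by norm_num, by norm_num; exact h4⟩
    · refine ⟨l, 1, hl, ?_, by rwa [pow_one]⟩
      rw [pow_one]
      have := hl.two_le
      have := Nat.odd_iff.mp hodd
      omega
  haveI : Fact l.Prime := ⟨hl⟩
  set w := v ^ (orderOf v / l ^ k) with hw
  have hwo : orderOf w = l ^ k := by
    rw [hw, orderOf_pow_orderOf_div (orderOf_pos v).ne' hdiv]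
  have hwfix : h.sig w = w := by rw [hw, map_pow, hv]
  have hw2 : w * w ≠ 1 := by
    intro e
    have h1 : orderOf w ∣ 2 := orderOf_dvd_of_pow_eq_one (by rw [pow_two, e])
    rw [hwo] at h1
    have := Nat.le_of_dvd two_pos h1
    omega
  set L := Subgroup.normalizer (E : Set G) with hL
  have hEL : E ≤ L := Subgroup.le_normalizer
  -- the Sylow subgroup of the normaliser is Sylow in the group
  have hidx : ¬ l ∣ L.index := by
    intro hd
    set wL : L := ⟨(w : G), hEL w.2⟩ with hwL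
    have hpg : IsPGroup l (Subgroup.zpowers wL) := IsPGroup.of_card (n := k) (by
      rw [Nat.card_zpowers, ← hwo, ← Subgroup.orderOf_coe, ← Subgroup.orderOf_coe w])
    obtain ⟨R, hR⟩ := hpg.exists_le_sylow
    set Q := (R : Subgroup L).map L.subtype with hQ
    have hQc : Nat.card Q = l ^ (Nat.card L).factorization l := by
      rw [hQ, Subgroup.card_map_of_injective L.subtype_injective, R.card_eq_multiplicity]
    have hwQ : (w : G) ∈ Q := ⟨wL, hR (Subgroup.mem_zpowers _), rfl⟩
    have hNL : Subgroup.normalizer (Q : Set G) ≤ L := by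
      intro q hq
      have hqw : q * (w : G) * q⁻¹ ∈ L := by
        have := (Subgroup.mem_normalizer_iff.mp hq (w : G)).mp hwQ
        exact Subgroup.map_subtype_le _ this
      refine h.ti q ((w * w : E) : G) (w * w).2 (fun e => hw2 (Subtype.ext e)) ?_
      rw [Subgroup.coe_mul, show q * ((w : G) * w) * q⁻¹ = q * w * q⁻¹ * (q * w * q⁻¹) by group]
      by_cases hc : q * (w : G) * q⁻¹ ∈ E
      · exact mul_mem hc hc
      · exact h.mul_not_mem hqw hqw hc hc
    have hdG : l ^ ((Nat.card L).factorization l + 1) ∣ Nat.card G := by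
      rw [pow_succ, ← L.card_mul_index]
      exact mul_dvd_mul (Nat.ordProj_dvd _ _) hd
    have h1 := (Sylow.prime_pow_dvd_card_normalizer hdG hQc).trans (Subgroup.card_dvd_of_le hNL)
    exact Nat.pow_succ_factorization_not_dvd Nat.card_pos.ne' hl h1
  letI : CommGroup E := { (inferInstance : Group E) with mul_comm := fun a b => Subtype.ext (h.comm a a.2 b b.2) }
  let V : L →* E := MonoidHom.mk' h.fold h.fold_mul
  have hVw : V ⟨(w : G), hEL w.2⟩ = w * w := by
    refine Subtype.ext ?_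
    show (h.fold ⟨(w : G), hEL w.2⟩ : G) = _
    rw [h.fold_mem (q := ⟨(w : G), hEL w.2⟩) w.2]
    show (w : G) * (h.sig w : E) = _
    rw [hwfix]
    rfl
  have hne : MonoidHom.transfer V (w : G) ≠ 1 := by
    refine Fusion.transfer_ne_one V (w : G) (hEL w.2) (p := l) (k := k)
      (by rw [Subgroup.orderOf_coe, hwo]) ((hl.coprime_iff_not_dvd).mpr hidx) (by rw [hVw]; exact hw2) ?_
    intro m a ham
    rw [hVw]
    refine Subtype.ext ?_
    show (h.fold _ : G) = _
    set t : E := w ^ m with ht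
    have htG : (w : G) ^ m = (t : G) := (SubmonoidClass.coe_pow w m).symm
    have hfixt : h.sig t = t := by rw [ht, map_pow, hwfix]
    rw [show ((w * w) ^ m : E) = t * t by rw [ht]; exact mul_pow w w m]
    by_cases ht2 : t * t = 1
    · rw [ht2, OneMemClass.coe_one]
      have hsq : a⁻¹ * (w : G) ^ m * a * (a⁻¹ * (w : G) ^ m * a) = 1 := by
        rw [show a⁻¹ * (w : G) ^ m * a * (a⁻¹ * (w : G) ^ m * a) =
          a⁻¹ * ((w : G) ^ m * (w : G) ^ m) * a by group, htG, ← Subgroup.coe_mul, ht2,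
          OneMemClass.coe_one, mul_one, inv_mul_cancel]
      by_cases hE' : a⁻¹ * (w : G) ^ m * a ∈ E
      · rw [h.fold_mem (q := ⟨_, ham⟩) hE', h.sig_fix_sq (Subtype.ext hsq)]
        exact hsq
      · rw [h.fold_not_mem (q := ⟨_, ham⟩) hE']
        exact hsq
    · have hmem : a⁻¹ * ((t * t : E) : G) * a⁻¹⁻¹ ∈ E := by
        rw [inv_inv, Subgroup.coe_mul, show a⁻¹ * ((t : G) * t) * a = a⁻¹ * t * a * (a⁻¹ * t * a) by group,
          ← htG]
        by_cases hc : a⁻¹ * (w : G) ^ m * a ∈ E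
        · exact mul_mem hc hc
        · exact h.mul_not_mem ham ham hc hc
      have haL : a⁻¹ ∈ L := h.ti a⁻¹ _ (t * t).2 (fun e => ht2 (Subtype.ext e)) hmem
      have hat : a⁻¹ * (w : G) ^ m * a = (t : G) := by
        rw [htG]
        by_cases hc : a⁻¹ ∈ E
        · rw [h.comm _ hc _ t.2, inv_mul_cancel_right]
        · have := h.conj_eq haL hc t
          rwa [inv_inv, hfixt] at this
      rw [h.fold_mem (q := ⟨_, ham⟩) (show a⁻¹ * (w : G) ^ m * a ∈ E by rw [hat]; exact t.2)]
      show a⁻¹ * (w : G) ^ m * a * _ = _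
      rw [show (⟨a⁻¹ * (w : G) ^ m * a, by rw [hat]; exact t.2⟩ : E) = t from Subtype.ext hat, hfixt, hat,
        Subgroup.coe_mul]
  apply hne
  have hk := Abelianization.commutator_subset_ker (MonoidHom.transfer V)
  rw [h.perfect] at hk
  exact hk (Subgroup.mem_top (w : G))

end Ctx

end Cfsg.Agent.Char.UniqueP
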