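import Cfsg.Agent.Lib.Char.UniqueP.RankBound
import Cfsg.Agent.Lib.Char.FreeTrace
import Cfsg.Agent.Lib.Char.Ortho
import Mathlib

/-!
# Pseudo-inverses for the sum over a Sylow subgroup of order `p` with complement in its normaliser

For a linear character `c` of the complement `E` put `Q = (∑ y in P, R y) * (∑ x in E, c x⁻¹ • R x)`.
A function on `G` with the translation behaviour of `c`, value `1` at `1`, and annihilated by `R`
gives an integral `M` with `Q * M * Q = Q`.
-/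

set_option autoImplicit false
set_option linter.unusedSectionVars false
set_option linter.style.haveILetI false

namespace Cfsg.Agent.Char.UniqueP

open Cfsg Matrix

universe u

/-- A subgroup `P` of order `p` with an abelian complement `E` in its normaliser. -/
structure Loc {G : Type u} [Group G] (p : ℕ) (P E : Subgroup G) : Prop where
  hp : p.Prime
  cardP : Nat.card P = p
  norm : ∀ x ∈ E, ∀ y ∈ P, x * y * x⁻¹ ∈ P
  inf : P ⊓ E = ⊥
  comm : ∀ a ∈ E, ∀ b ∈ E, a * b = b * a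
  self : ∀ g : G, ∀ y ∈ P, y ≠ 1 → g⁻¹ * y * g ∈ P → ∃ y' ∈ P, ∃ x ∈ E, g = y' * x
  cop : ¬ p ∣ Nat.card E

/-- The translations of a group by pairs from a subgroup. -/
@[reducible] def twoSided {G : Type u} [Group G] (P : Subgroup G) : MulAction (P × P) G where
  smul q g := (q.1 : G) * g * (q.2 : G)⁻¹
  one_smul g := by show ((1 : P) : G) * g * ((1 : P) : G)⁻¹ = g; simp
  mul_smul a b g := by
    show ((a.1 * b.1 : P) : G) * g * ((a.2 * b.2 : P) : G)⁻¹ =
      (a.1 : G) * ((b.1 : G) * g * (b.2 : G)⁻¹) * (a.2 : G)⁻¹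
    simp [mul_assoc]

theorem sum_free_orbits {Γ X M : Type*} [Group Γ] [Fintype Γ] [MulAction Γ X] [Fintype X]
    [DecidableEq X] [AddCommMonoid M] (F : X → M) (S : Finset X)
    (hS : ∀ (γ : Γ), ∀ x ∈ S, γ • x ∈ S) (hfree : ∀ (γ : Γ), ∀ x ∈ S, γ • x = x → γ = 1)
    (hF : ∀ (γ : Γ), ∀ x ∈ S, F (γ • x) = F x) :
    ∃ T : Finset X, T ⊆ S ∧ ∑ x ∈ S, F x = Fintype.card Γ • ∑ x ∈ T, F x := by
  classical
  induction S using Finset.strongInductionOn with
  | _ S ih =>
    rcases S.eq_empty_or_nonempty with rfl | ⟨x₀, hx₀⟩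
    · exact ⟨∅, le_rfl, by simp⟩
    set O := Finset.univ.image fun γ : Γ => γ • x₀ with hO
    have hOS : O ⊆ S := by
      intro x hx
      obtain ⟨γ, -, rfl⟩ := Finset.mem_image.mp hx
      exact hS γ x₀ hx₀
    have hOne : x₀ ∈ O := Finset.mem_image.mpr ⟨1, Finset.mem_univ _, one_smul _ _⟩
    have hlt : S \ O ⊂ S := Finset.sdiff_ssubset hOS ⟨x₀, hOne⟩
    have hmem : ∀ (γ : Γ), ∀ x ∈ S \ O, γ • x ∈ S \ O := by
      intro γ x hx
      obtain ⟨hxS, hxO⟩ := Finset.mem_sdiff.mp hx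
      refine Finset.mem_sdiff.mpr ⟨hS γ x hxS, fun h => hxO ?_⟩
      obtain ⟨δ, -, hδ⟩ := Finset.mem_image.mp h
      exact Finset.mem_image.mpr ⟨γ⁻¹ * δ, Finset.mem_univ _, by rw [mul_smul, hδ, inv_smul_smul]⟩
    obtain ⟨T, hT, hsum⟩ := ih _ hlt hmem (fun γ x hx => hfree γ x (Finset.mem_sdiff.mp hx).1)
      (fun γ x hx => hF γ x (Finset.mem_sdiff.mp hx).1)
    have hinj : Function.Injective fun γ : Γ => γ • x₀ := by
      intro a b h
      have : (b⁻¹ * a) • x₀ = x₀ := by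
        rw [mul_smul, show a • x₀ = b • x₀ from h, inv_smul_smul]
      exact (inv_mul_eq_one.mp (hfree _ x₀ hx₀ this)).symm
    have hsumO : ∑ x ∈ O, F x = Fintype.card Γ • F x₀ := by
      rw [hO, Finset.sum_image fun a _ b _ h => hinj h,
        Finset.sum_congr rfl fun γ _ => hF γ x₀ hx₀, Finset.sum_const, Finset.card_univ]
    refine ⟨insert x₀ T, Finset.insert_subset hx₀ (hT.trans Finset.sdiff_subset), ?_⟩
    rw [← Finset.sum_sdiff hOS, hsum, hsumO, Finset.sum_insert (fun h => (Finset.mem_sdiff.mp (hT h)).2 hOne),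
      smul_add, add_comm]

variable {G : Type u} [Group G] {p : ℕ} {P E : Subgroup G} [Fintype P] [Fintype E]
  {V : ValuationSubring ℂ} {s : ℕ} (R : G →* Matrix (Fin s) (Fin s) V)

variable (P) in
/-- The sum over `P`. -/
noncomputable def pSum : Matrix (Fin s) (Fin s) V := ∑ y : P, R (y : G)

/-- The weighted sum over `E`. -/
noncomputable def eSum (c : ↥E →* V) : Matrix (Fin s) (Fin s) V := ∑ x : E, c x⁻¹ • R (x : G)

variable (P) in
/-- The projection attached to `c`, not normalised. -/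
noncomputable def qSum (c : ↥E →* V) : Matrix (Fin s) (Fin s) V := pSum P R * eSum R c

theorem mul_pSum {y : G} (hy : y ∈ P) : R y * pSum P R = pSum P R := by
  rw [pSum, Finset.mul_sum]
  exact Fintype.sum_equiv (Equiv.mulLeft (⟨y, hy⟩ : P)) _ _ fun z => by simp

theorem pSum_mul {y : G} (hy : y ∈ P) : pSum P R * R y = pSum P R := by
  rw [pSum, Finset.sum_mul]
  exact Fintype.sum_equiv (Equiv.mulRight (⟨y, hy⟩ : P)) _ _ fun z => by simp

theorem pSum_comm (h : Loc p P E) {x : G} (hx : x ∈ E) : R x * pSum P R = pSum P R * R x := by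
  rw [pSum, Finset.mul_sum, Finset.sum_mul]
  refine Fintype.sum_equiv
    { toFun := fun y : P => ⟨x * y * x⁻¹, h.norm x hx y y.2⟩
      invFun := fun y : P => ⟨x⁻¹ * y * x, by simpa using h.norm x⁻¹ (inv_mem hx) y y.2⟩
      left_inv := fun y => Subtype.ext (by group)
      right_inv := fun y => Subtype.ext (by group) } _ _ fun y => ?_
  show R x * R y = R (x * y * x⁻¹) * R x
  rw [← map_mul, ← map_mul]
  group

theorem eSum_pSum (h : Loc p P E) (c : ↥E →* V) : eSum R c * pSum P R = pSum P R * eSum R c := by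
  rw [eSum, Finset.sum_mul, Finset.mul_sum]
  exact Finset.sum_congr rfl fun x _ => by rw [smul_mul_assoc, pSum_comm R h x.2, mul_smul_comm]

theorem cVal_mul_inv (c : ↥E →* V) (x : E) : c x * c x⁻¹ = 1 := by
  rw [← map_mul, mul_inv_cancel, map_one]

theorem mul_eSum (c : ↥E →* V) (x : E) : R (x : G) * eSum R c = c x • eSum R c := by
  rw [eSum, Finset.mul_sum, Finset.smul_sum]
  refine Fintype.sum_equiv (Equiv.mulLeft x) _ _ fun z => ?_
  show R (x : G) * (c z⁻¹ • R (z : G)) = c x • (c (x * z)⁻¹ • R ((x * z : E) : G))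
  rw [mul_smul_comm, ← map_mul, smul_smul, _root_.mul_inv_rev, map_mul c,
    ← mul_assoc, mul_comm (c x), mul_assoc, cVal_mul_inv, mul_one]
  rfl

theorem eSum_mul (h : Loc p P E) (c : ↥E →* V) (x : E) : eSum R c * R (x : G) = c x • eSum R c := by
  rw [← mul_eSum R c x, eSum, Finset.sum_mul, Finset.mul_sum]
  refine Finset.sum_congr rfl fun z _ => ?_
  rw [smul_mul_assoc, mul_smul_comm, ← map_mul, ← map_mul, h.comm z z.2 x x.2]

theorem eSum_sq (c : ↥E →* V) : eSum R c * eSum R c = Nat.card E • eSum R c := by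
  nth_rw 1 [eSum]
  rw [Finset.sum_mul, Finset.sum_congr rfl (g := fun _ => eSum R c) fun x _ => by
    rw [smul_mul_assoc, mul_eSum, smul_smul, mul_comm, cVal_mul_inv, one_smul],
    Finset.sum_const, Finset.card_univ, Nat.card_eq_fintype_card]

theorem pSum_sq (h : Loc p P E) : pSum P R * pSum P R = p • pSum P R := by
  nth_rw 1 [pSum]
  rw [Finset.sum_mul, Finset.sum_congr rfl fun y _ => mul_pSum R y.2, Finset.sum_const,
    Finset.card_univ, ← Nat.card_eq_fintype_card, h.cardP]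

theorem qSum_sq (h : Loc p P E) (c : ↥E →* V) :
    qSum P R c * qSum P R c = (p * Nat.card E) • qSum P R c := by
  rw [qSum, mul_assoc, ← mul_assoc (eSum R c), eSum_pSum R h, mul_assoc (pSum P R), eSum_sq,
    ← mul_assoc, pSum_sq R h, smul_mul_assoc, mul_smul_comm, smul_smul]

theorem qSum_mul_p (h : Loc p P E) (c : ↥E →* V) {y : G} (hy : y ∈ P) :
    qSum P R c * R y = qSum P R c := by
  rw [qSum, ← eSum_pSum R h, mul_assoc, pSum_mul R hy]

theorem p_mul_qSum (c : ↥E →* V) {y : G} (hy : y ∈ P) : R y * qSum P R c = qSum P R c := by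
  rw [qSum, ← mul_assoc, mul_pSum R hy]

theorem qSum_mul_e (h : Loc p P E) (c : ↥E →* V) (x : E) :
    qSum P R c * R (x : G) = c x • qSum P R c := by
  rw [qSum, mul_assoc, eSum_mul R h, mul_smul_comm]

theorem e_mul_qSum (h : Loc p P E) (c : ↥E →* V) (x : E) :
    R (x : G) * qSum P R c = c x • qSum P R c := by
  rw [qSum, ← mul_assoc, pSum_comm R h x.2, mul_assoc, mul_eSum, mul_smul_comm]

/-- A function witnessing that the projection attached to `c` is a direct summand. -/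
def Good (P : Subgroup G) [Fintype G] (R : G →* Matrix (Fin s) (Fin s) V) (c : ↥E →* V) : Prop :=
  ∃ a : G → V, a 1 = 1 ∧ (∀ g : G, ∀ y ∈ P, a (y * g) = a g ∧ a (g * y) = a g) ∧
    (∀ (x : E) (g : G), a ((x : G) * g) = c x * a g) ∧ ∑ g, a g • R g⁻¹ = 0

theorem nsmul_left_cancel {m : ℕ} (hm : m ≠ 0) {X Y : Matrix (Fin s) (Fin s) V}
    (h : m • X = m • Y) : X = Y := by
  ext i j
  have h1 := congrFun (congrFun h i) j
  simp only [Matrix.smul_apply, nsmul_eq_mul] at h1
  have h2 := congrArg (fun v : V => (v : ℂ)) h1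
  push_cast at h2
  exact congrArg _ (Subtype.ext (mul_left_cancel₀ (Nat.cast_ne_zero.mpr hm) h2))

theorem exists_pinv [Fintype G] (h : Loc p P E) (hpV : ¬ IsUnit (p : V)) (c : ↥E →* V)
    (hg : Good P R c) : ∃ M, qSum P R c * M * qSum P R c = qSum P R c := by
  classical
  obtain ⟨a, ha1, haP, haE, ha0⟩ := hg
  set Q := qSum P R c with hQ
  set F : G → Matrix (Fin s) (Fin s) V := fun g => a g • (Q * R g⁻¹ * Q) with hF
  have htot : ∑ g, F g = 0 := by
    have h1 := congrArg (fun X => Q * X * Q) ha0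
    simp only [Finset.mul_sum, Finset.sum_mul, mul_zero, zero_mul, mul_smul_comm, smul_mul_assoc] at h1
    exact h1
  -- the part in the normaliser
  set j : P × E → G := fun q => (q.1 : G) * (q.2 : G) with hj
  have hjinj : Function.Injective j := by
    rintro ⟨y, x⟩ ⟨y', x'⟩ e
    have e1 : (y' : G)⁻¹ * y = (x' : G) * (x : G)⁻¹ := by
      have : (y : G) * x = y' * x' := e
      rw [inv_mul_eq_iff_eq_mul, ← mul_assoc, ← this, mul_inv_cancel_right]
    have e2 : (y' : G)⁻¹ * y ∈ P ⊓ E :=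
      ⟨P.mul_mem (P.inv_mem y'.2) y.2, e1 ▸ E.mul_mem x'.2 (E.inv_mem x.2)⟩
    rw [h.inf, Subgroup.mem_bot] at e2
    have hy : y = y' := Subtype.ext (inv_mul_eq_one.mp e2).symm
    subst hy
    exact Prod.ext rfl (Subtype.ext (mul_left_cancel (a := (y : G)) e))
  have hN : ∑ g ∈ Finset.univ.image j, F g = (p * Nat.card E) ^ 2 • Q := by
    rw [Finset.sum_image fun a _ b _ e => hjinj e]
    rw [Finset.sum_congr rfl (g := fun _ => (p * Nat.card E) • Q) fun q _ => ?_,
      Finset.sum_const, Finset.card_univ, Fintype.card_prod, ← Nat.card_eq_fintype_card,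
      ← Nat.card_eq_fintype_card, h.cardP, smul_smul, pow_two]
    obtain ⟨y, x⟩ := q
    simp only [hF, hj]
    rw [(haP x y y.2).1, show (x : G) = x * 1 by rw [mul_one], haE, ha1, mul_one, mul_one,
      _root_.mul_inv_rev, map_mul, ← mul_assoc,
      show ((x : G))⁻¹ = ((x⁻¹ : E) : G) from rfl, qSum_mul_e R h, mul_assoc,
      p_mul_qSum R c (inv_mem y.2), smul_mul_assoc, qSum_sq R h, smul_smul, cVal_mul_inv, one_smul]
  -- the free orbits
  letI := twoSided P
  have hsmul : ∀ (q : P × P) (g : G), q • g = (q.1 : G) * g * (q.2 : G)⁻¹ := fun _ _ => rfl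
  have hmem : ∀ (q : P × P), ∀ g ∈ Finset.univ \ Finset.univ.image j, q • g ∈ Finset.univ \ Finset.univ.image j := by
    intro q g hg
    refine Finset.mem_sdiff.mpr ⟨Finset.mem_univ _, fun hm => (Finset.mem_sdiff.mp hg).2 ?_⟩
    obtain ⟨⟨y, x⟩, -, e⟩ := Finset.mem_image.mp hm
    have e' : (y : G) * x = (q.1 : G) * g * (q.2 : G)⁻¹ := e
    refine Finset.mem_image.mpr ⟨(q.1⁻¹ * y * ⟨x * q.2 * (x : G)⁻¹, h.norm x x.2 q.2 q.2.2⟩, x),
      Finset.mem_univ _, ?_⟩
    show (q.1 : G)⁻¹ * y * (x * q.2 * (x : G)⁻¹) * x = g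
    calc _ = (q.1 : G)⁻¹ * ((y : G) * x) * q.2 := by group
      _ = g := by rw [e']; group
  have hfree : ∀ (q : P × P), ∀ g ∈ Finset.univ \ Finset.univ.image j, q • g = g → q = 1 := by
    intro q g hg hfix
    rw [hsmul, mul_inv_eq_iff_eq_mul] at hfix
    by_cases hq : q.1 = 1
    · refine Prod.ext hq (Subtype.ext ?_)
      rw [hq, OneMemClass.coe_one, one_mul] at hfix
      exact left_eq_mul.mp hfix
    · exfalso
      obtain ⟨y', hy', x, hx, rfl⟩ := h.self g q.1 q.1.2 (fun e => hq (Subtype.ext e))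
        (by rw [mul_assoc, hfix, inv_mul_cancel_left]; exact q.2.2)
      exact (Finset.mem_sdiff.mp hg).2
        (Finset.mem_image.mpr ⟨(⟨y', hy'⟩, ⟨x, hx⟩), Finset.mem_univ _, rfl⟩)
  have hinv : ∀ (q : P × P), ∀ g ∈ Finset.univ \ Finset.univ.image j, F (q • g) = F g := by
    intro q g _
    simp only [hF, hsmul]
    rw [(haP _ _ (inv_mem q.2.2)).2, (haP g _ q.1.2).1, _root_.mul_inv_rev, _root_.mul_inv_rev, inv_inv, map_mul,
      map_mul, ← mul_assoc, ← mul_assoc, qSum_mul_p R h c q.2.2, mul_assoc (Q * R g⁻¹),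
      p_mul_qSum R c (inv_mem q.1.2)]
  obtain ⟨T, -, hT⟩ := sum_free_orbits (Γ := P × P) F _ hmem hfree hinv
  rw [Fintype.card_prod, ← Nat.card_eq_fintype_card, h.cardP] at hT
  rw [← Finset.sum_sdiff (Finset.subset_univ (Finset.univ.image j)), hT, hN] at htot
  have hM' : ∑ g ∈ T, F g = Q * (∑ g ∈ T, a g • R g⁻¹) * Q := by
    simp only [hF, Finset.mul_sum, Finset.sum_mul, mul_smul_comm, smul_mul_assoc]
  rw [hM'] at htot
  set M' := ∑ g ∈ T, a g • R g⁻¹
  have h2 : Nat.card E ^ 2 • Q = -(Q * M' * Q) := by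
    refine nsmul_left_cancel (m := p * p) (mul_ne_zero h.hp.ne_zero h.hp.ne_zero) ?_
    rw [smul_neg, eq_neg_iff_add_eq_zero, smul_smul, show p * p * Nat.card E ^ 2 = (p * Nat.card E) ^ 2 by ring,
      add_comm]
    exact htot
  obtain ⟨w, hw⟩ := (isUnit_nat_of_not_dvd h.hp hpV h.cop).pow 2
  refine ⟨-(((w⁻¹ : Vˣ) : V) • M'), ?_⟩
  rw [mul_neg, neg_mul, mul_smul_comm, smul_mul_assoc, ← smul_neg, ← h2, ← Nat.cast_smul_eq_nsmul V,
    smul_smul, Nat.cast_pow, ← hw, Units.inv_mul, one_smul]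

/-- If every projection has a pseudo-inverse, so has the sum over `P`. -/
theorem exists_pSum_pinv [DecidableEq E] (h : Loc p P E) (hpV : ¬ IsUnit (p : V)) {ι : Type*} [Fintype ι]
    (c : ι → ↥E →* V) (horth : ∀ x : E, ∑ i, c i x⁻¹ = if x = 1 then (Nat.card E : V) else 0)
    (hall : ∀ i, ∃ M, qSum P R (c i) * M * qSum P R (c i) = qSum P R (c i)) :
    ∃ Φ, pSum P R * Φ * pSum P R = pSum P R := by
  classical
  choose M hM using hall
  obtain ⟨w, hw⟩ := isUnit_nat_of_not_dvd h.hp hpV h.cop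
  have hsum : ∑ i, eSum R (c i) = (Nat.card E : V) • (1 : Matrix (Fin s) (Fin s) V) := by
    simp only [eSum]
    rw [Finset.sum_comm]
    simp only [← Finset.sum_smul, horth, ite_smul, zero_smul]
    rw [Finset.sum_ite_eq' Finset.univ (1 : E), if_pos (Finset.mem_univ _), OneMemClass.coe_one, map_one]
  refine ⟨((w⁻¹ : Vˣ) : V) • ∑ i, eSum R (c i) * M i * eSum R (c i), ?_⟩
  rw [mul_smul_comm, smul_mul_assoc, Finset.mul_sum, Finset.sum_mul,
    Finset.sum_congr rfl (g := fun i => qSum P R (c i)) fun i _ => by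
      conv_rhs => rw [← hM i]
      simp only [qSum, mul_assoc, eSum_pSum R h],
    show ∑ i, qSum P R (c i) = pSum P R * ∑ i, eSum R (c i) by rw [Finset.mul_sum]; rfl,
    hsum, mul_smul_comm, mul_one, smul_smul, ← hw, Units.inv_mul, one_smul]

theorem pSum_eq_geom (h : Loc p P E) {y : G} (hy : y ∈ P) (hy1 : y ≠ 1) :
    pSum P R = ∑ j ∈ Finset.range p, R y ^ j := by
  classical
  haveI : Fact p.Prime := ⟨h.hp⟩
  set y' : P := ⟨y, hy⟩
  have hne : y' ≠ 1 := fun e => hy1 (congrArg Subtype.val e)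
  have ho : orderOf y' = p := by
    have := orderOf_dvd_natCard y'
    rw [h.cardP] at this
    exact (h.hp.eq_one_or_self_of_dvd _ this).resolve_left (fun e => hne (orderOf_eq_one_iff.mp e))
  have himg : (Finset.range p).image (fun j => y' ^ j) = Finset.univ := by
    refine Finset.eq_univ_of_card _ ?_
    rw [Finset.card_image_of_injOn, Finset.card_range, ← Nat.card_eq_fintype_card, h.cardP]
    intro a ha b hb e
    exact pow_injOn_Iio_orderOf (by simpa [ho] using ha) (by simpa [ho] using hb) e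
  rw [pSum, ← himg, Finset.sum_image]
  · exact Finset.sum_congr rfl fun j _ => by rw [SubmonoidClass.coe_pow, map_pow]
  · intro a ha b hb e
    exact pow_injOn_Iio_orderOf (by simpa [ho] using ha) (by simpa [ho] using hb) e

theorem R_pow_p (h : Loc p P E) {y : G} (hy : y ∈ P) : R y ^ p = 1 := by
  rw [← map_pow]
  have : (⟨y, hy⟩ : P) ^ Nat.card P = 1 := pow_card_eq_one'
  rw [h.cardP] at this
  rw [show y ^ p = 1 from congrArg Subtype.val this, map_one]

/-- The degree bound from pseudo-inverses. -/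
theorem trace_le_of_pinv (h : Loc p P E) (hpV : ¬ IsUnit (p : V))
    (hΦ : ∃ Φ, pSum P R * Φ * pSum P R = pSum P R) :
    ∃ k : ℕ, (pSum P R).trace = (p : V) * k ∧ p * k ≤ s := by
  obtain ⟨y, hy, hy1⟩ : ∃ y ∈ P, y ≠ (1 : G) := by
    have hne : P ≠ ⊥ := fun e => h.hp.ne_one (by rw [← h.cardP, e, Subgroup.card_bot])
    by_contra hno
    push Not at hno
    exact hne ((Subgroup.eq_bot_iff_forall _).mpr hno)
  obtain ⟨Φ, hΦ⟩ := hΦ
  rw [pSum_eq_geom R h hy hy1] at hΦ ⊢
  exact sum_pow_trace_le h.hp hpV (R y) Φ (R_pow_p R h hy) hΦ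

omit [Fintype P] [Fintype E] in
theorem Loc.yx_conj [Finite P] (h : Loc p P E)
    (hcent : ∀ y ∈ P, y ≠ (1 : G) → Subgroup.centralizer ({y} : Set G) = P) {y x : G} (hy : y ∈ P) (hx : x ∈ E) (hx1 : x ≠ 1) :
    ∃ z ∈ P, y * x = z * x * z⁻¹ := by
  let f : P → P := fun z => ⟨(z : G) * (x * (z : G)⁻¹ * x⁻¹), mul_mem z.2 (h.norm x hx _ (inv_mem z.2))⟩
  have hf : Function.Injective f := by
    intro a b hab
    have e : (a : G) * (x * (a : G)⁻¹ * x⁻¹) = (b : G) * (x * (b : G)⁻¹ * x⁻¹) := congrArg Subtype.val hab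
    have hcom : ((b : G)⁻¹ * a) * x = x * ((b : G)⁻¹ * a) := by
      calc ((b : G)⁻¹ * a) * x = (b : G)⁻¹ * ((a : G) * (x * (a : G)⁻¹ * x⁻¹)) * x * a := by group
        _ = x * ((b : G)⁻¹ * a) := by rw [e]; group
    by_contra hne
    have hne' : (b : G)⁻¹ * a ≠ 1 := fun e' => hne (Subtype.ext (inv_mul_eq_one.mp e').symm)
    have hxC : x ∈ Subgroup.centralizer ({(b : G)⁻¹ * a} : Set G) :=
      Subgroup.mem_centralizer_singleton_iff.mpr hcom.symm
    rw [hcent _ (mul_mem (inv_mem b.2) a.2) hne'] at hxC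
    have : x ∈ P ⊓ E := ⟨hxC, hx⟩
    rw [h.inf, Subgroup.mem_bot] at this
    exact hx1 this
  obtain ⟨z, hz⟩ := (Finite.injective_iff_surjective.mp hf) ⟨y, hy⟩
  refine ⟨z, z.2, ?_⟩
  rw [show y = (z : G) * (x * (z : G)⁻¹ * x⁻¹) from (congrArg Subtype.val hz).symm]
  group

end Cfsg.Agent.Char.UniqueP
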