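import Cfsg.Agent.Lib.Char.UniqueP.OddBound
import Cfsg.Agent.Lib.Char.PrimeSylowPrincipal
import Cfsg.Agent.Lib.Small.StructureConstantTwo
import Cfsg.Agent.Lib.Char.HalfDegree.Group
import Mathlib

/-!
# Odd complement: a character of degree `(p - 1) / 2`
-/

set_option autoImplicit false
set_option linter.unusedSectionVars false
set_option linter.style.haveILetI false

open scoped ComplexConjugate

namespace Cfsg.Agent.Char.UniqueP.Ctx

open Cfsg Cfsg.Agent Cfsg.Agent.Char

universe u

variable {G : Type u} [Group G] [Fintype G] {p n : ℕ} {P E : Subgroup G} {u : G} {χ : IrrCharacter G}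

theorem relIndex_eq (h : Ctx p n P E u χ) :
    (Subgroup.centralizer (P : Set G)).relIndex (Subgroup.normalizer (P : Set G)) = Nat.card E := by
  classical
  have hne : P ≠ ⊥ := fun e => h.hp.ne_one (by rw [← h.cardP, e, Subgroup.card_bot])
  obtain ⟨y, hy, hy1⟩ : ∃ y ∈ P, y ≠ (1 : G) := by
    by_contra hno
    push Not at hno
    exact hne ((Subgroup.eq_bot_iff_forall _).mpr hno)
  have hPle : P ≤ Subgroup.centralizer (P : Set G) := by
    intro a ha
    refine Subgroup.mem_centralizer_iff.mpr fun b hb => ?_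
    by_cases hb1 : b = 1
    · subst hb1; simp
    · have : a ∈ Subgroup.centralizer ({b} : Set G) := by rw [h.centP b hb hb1]; exact ha
      exact (Subgroup.mem_centralizer_singleton_iff.mp this).symm
  have hC : Subgroup.centralizer (P : Set G) = P := by
    refine le_antisymm (fun a ha => ?_) hPle
    rw [← h.centP y hy hy1]
    exact Subgroup.mem_centralizer_singleton_iff.mpr ((Subgroup.mem_centralizer_iff.mp ha y hy).symm)
  set N := Subgroup.normalizer (P : Set G)
  have hEN : ∀ x ∈ E, x ∈ N := fun x hx => Subgroup.mem_normalizer_iff.mpr fun z =>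
    ⟨fun hz => h.norm x hx z hz, fun hz => by
      have := h.norm x⁻¹ (inv_mem hx) _ hz
      simpa [mul_assoc] using this⟩
  let f : P × E → N := fun q => ⟨(q.1 : G) * q.2, mul_mem (Subgroup.le_normalizer q.1.2) (hEN _ q.2.2)⟩
  have hf : Function.Bijective f := by
    constructor
    · rintro ⟨a, x⟩ ⟨b, z⟩ e
      have e' : (a : G) * x = b * z := congrArg Subtype.val e
      have e1 : (b : G)⁻¹ * a = (z : G) * (x : G)⁻¹ := by
        rw [inv_mul_eq_iff_eq_mul, ← mul_assoc, ← e', mul_inv_cancel_right]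
      have e2 : (b : G)⁻¹ * a ∈ P ⊓ E :=
        ⟨P.mul_mem (P.inv_mem b.2) a.2, e1 ▸ E.mul_mem z.2 (E.inv_mem x.2)⟩
      rw [h.inf, Subgroup.mem_bot] at e2
      have hab : a = b := Subtype.ext (inv_mul_eq_one.mp e2).symm
      subst hab
      exact Prod.ext rfl (Subtype.ext (mul_left_cancel e'))
    · intro g
      obtain ⟨y', hy', x, hx, e⟩ := h.self g y hy hy1 (by
        have := (Subgroup.mem_normalizer_iff.mp (inv_mem g.2) y).mp hy
        rwa [inv_inv] at this)
      exact ⟨(⟨y', hy'⟩, ⟨x, hx⟩), Subtype.ext e.symm⟩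
  have hNc : Nat.card N = p * Nat.card E := by
    rw [← Nat.card_congr (Equiv.ofBijective f hf), Nat.card_prod, h.cardP]
  rw [hC]
  have h1 := (P.subgroupOf N).card_mul_index
  rw [Nat.card_congr (Subgroup.subgroupOfEquivOfLe Subgroup.le_normalizer).toEquiv, h.cardP, hNc] at h1
  exact Nat.eq_of_mul_eq_mul_left h.hp.pos h1

/-- The subgroup `P` as a Sylow subgroup. -/
theorem exists_sylow (h : Ctx p n P E u χ) : ∃ S : Sylow p G, (S : Subgroup G) = P := by
  haveI : Fact p.Prime := ⟨h.hp⟩
  have hd : p ∣ Nat.card G := h.cardP ▸ P.card_subgroup_dvd_card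
  have h1 : (Nat.card G).factorization p = 1 := by
    refine le_antisymm ?_ (h.hp.factorization_pos_of_dvd Nat.card_pos.ne' hd)
    by_contra hc
    exact h.sylow ((pow_dvd_pow p (by omega)).trans (Nat.ordProj_dvd _ p))
  exact ⟨Sylow.ofCard P (by rw [h.cardP, h1, pow_one]), rfl⟩

/-- In the odd case there is a faithful character of degree `(p - 1) / 2`. -/
theorem odd_main (h : Ctx p n P E u χ) (ho : Odd (Nat.card E)) :
    p = 2 * Nat.card E + 1 ∧
      ∃ μ : IrrCharacter G, deg (μ : G → ℂ) = Nat.card E := by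
  classical
  haveI : Fact p.Prime := ⟨h.hp⟩
  letI : Fintype E := Fintype.ofFinite _
  haveI := finite_hom_units E
  letI := Fintype.ofFinite (↥E →* ℂˣ)
  obtain ⟨S, rfl⟩ := h.exists_sylow
  letI : Fintype (S : Subgroup G) := Fintype.ofFinite _
  set e := Nat.card E with he
  have hp2 := h.hp.two_le
  have hpe : p = n * e + 1 := h.p_eq
  have he3 : 3 ≤ e := by
    have := h.two_le
    have := Nat.odd_iff.mp ho
    omega
  have hn0 : n ≠ 0 := fun e0 => by rw [e0, zero_mul, zero_add] at hpe; exact h.hp.ne_one hpe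
  have hn2 : 2 ≤ n := by
    have := Nat.even_iff.mp h.n_even
    omega
  -- the exceptional set
  let f : (↥E →* ℂˣ) → IrrCharacter G := fun l =>
    if hl : l ≠ 1 then (h.exists_X ho hl).choose else χ
  have hf : ∀ l, l ≠ 1 → wl χ l = (f l : G → ℂ) := fun l hl => by
    simp only [f, dif_pos hl]; exact (h.exists_X ho hl).choose_spec
  set L : Finset (↥E →* ℂˣ) := Finset.univ.erase 1 with hL
  set Xs := L.image f with hXs
  have hfib : ∀ X ∈ Xs, (L.filter fun k => f k = X).card = 2 := by
    intro X hX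
    obtain ⟨l, hl, rfl⟩ := Finset.mem_image.mp hX
    have hl1 : l ≠ 1 := Finset.ne_of_mem_erase hl
    have hset : (L.filter fun k => f k = f l) = {l, h.tw l} := by
      ext k
      simp only [Finset.mem_filter, hL, Finset.mem_erase, Finset.mem_univ, and_true, Finset.mem_insert,
        Finset.mem_singleton]
      constructor
      · rintro ⟨hk, hfk⟩
        have h1 := h.wl_inner hk hl1
        rw [hf k hk, hf l hl1, hfk, irr_self (f l).2] at h1
        by_contra hne
        push Not at hne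
        rw [if_neg hne.1, if_neg hne.2, add_zero] at h1
        exact one_ne_zero h1
      · rintro (rfl | rfl)
        · exact ⟨hl1, rfl⟩
        · refine ⟨h.tw_ne_one hl1, Subtype.ext ?_⟩
          rw [← hf _ (h.tw_ne_one hl1), ← hf l hl1, h.wl_tw hl1 (h.tw_ne ho hl1)]
    rw [hset, Finset.card_pair (h.tw_ne ho hl1).symm]
  have hXcard : 2 * Xs.card + 1 = e := by
    have h1 : L.card = Xs.card * 2 := by
      rw [Finset.card_eq_sum_card_fiberwise (f := f) (t := Xs) fun k hk => Finset.mem_image_of_mem f hk,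
        Finset.sum_congr rfl hfib, Finset.sum_const, smul_eq_mul]
    have h2 : L.card + 1 = e := by
      rw [hL, Finset.card_erase_of_mem (Finset.mem_univ _), Finset.card_univ, he,
        ← Nat.card_eq_fintype_card, card_hom_units,
        show commutator E = ⊥ by
          rw [commutator_def, Subgroup.commutator_eq_bot_iff_le_centralizer]
          exact fun a _ b _ => Subtype.ext (h.comm b b.2 a a.2),
        Subgroup.index_bot]
      omega
    omega
  have hXdeg : ∀ X ∈ Xs, deg (X : G → ℂ) = p + 1 := by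
    intro X hX
    obtain ⟨l, hl, rfl⟩ := Finset.mem_image.mp hX
    have e1 := h.wl_apply_one l
    rw [hf l (Finset.ne_of_mem_erase hl), char_one_eq_deg (irr_isCharacter (f l).2)] at e1
    exact_mod_cast e1
  let one : IrrCharacter G := ⟨fun _ => 1, isIrrCharacter_one⟩
  have hone : one ∉ Xs := fun hm => by
    have h1 := hXdeg one hm
    simp [one, deg] at h1
    omega
  -- the principal block
  obtain ⟨M, hM⟩ := exists_pModular h.hp
  obtain ⟨X, Y, a, δ, hB⟩ := exists_prime_principal (P := S) hM h.cardP h.relIndex_eq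
  have hdeg_eq : ∀ θ : IrrCharacter G, charDegree (θ : G → ℂ) = deg (θ : G → ℂ) := fun θ => rfl
  have hvan : ∀ θ, θ ∉ principalBlock M G → ∀ y ∈ nonOne S, (θ : G → ℂ) (y : G) = 0 := by
    intro θ hθ y hy
    have hy1 := mem_nonOne.mp hy
    refine Small.StructureConstantTwo.vanish_outside hM ?_ ?_ hθ (y := (y : G))
    · have h1 := orderOf_dvd_natCard y
      rw [h.cardP, ← Subgroup.orderOf_coe] at h1
      exact (h.hp.eq_one_or_self_of_dvd _ h1).resolve_left fun e1 => hy1 (orderOf_eq_one_iff.mp e1)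
    · rw [h.centP _ y.2 hy1, eq_zpowers_of_prime_sylow h.cardP y.2 hy1]
  have hmemX : ∀ θ : IrrCharacter G, deg (θ : G → ℂ) % p = 1 →
      (∀ y ∈ nonOne S, (θ : G → ℂ) (y : G) = 1) → θ ∈ X ∧ a θ = 1 := by
    intro θ hθd hval
    obtain ⟨y, hy⟩ : (nonOne S).Nonempty := by
      by_contra hno
      rw [Finset.not_nonempty_iff_eq_empty] at hno
      have h1 : ((nonOne S).card : ℂ) = (p : ℂ) - 1 := by
        rw [show ((nonOne S).card : ℂ) = ∑ y ∈ nonOne S, (1 : ℂ) by simp,
          show (nonOne S) = Finset.univ.erase 1 by ext y; simp [mem_nonOne],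
          Finset.sum_erase_eq_sub (Finset.mem_univ _)]
        simp [← Nat.card_eq_fintype_card, h.cardP]
      rw [hno, Finset.card_empty, Nat.cast_zero, eq_comm, sub_eq_zero] at h1
      exact h.hp.ne_one (by exact_mod_cast h1)
    have hpb : θ ∈ principalBlock M G := by
      by_contra hc
      exact one_ne_zero ((hval y hy).symm.trans (hvan θ hc y hy))
    rcases (hB.mem_iff θ).mp hpb with hX | hY
    · refine ⟨hX, ?_⟩
      have h2 := (hval y hy).symm.trans (hB.a_val θ hX y hy)
      exact_mod_cast h2.symm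
    · exfalso
      have h1 := hB.congrY θ hY
      rw [hdeg_eq] at h1
      have hpe' : (p : ℤ) = n * e + 1 := by exact_mod_cast hpe
      have h2 : (deg (θ : G → ℂ) : ℤ) ≡ 1 [ZMOD p] := by
        rw [Int.ModEq]
        have : ((deg (θ : G → ℂ) % p : ℕ) : ℤ) = 1 := by exact_mod_cast hθd
        push_cast at this
        rw [this]
        exact (Int.emod_eq_of_lt (by norm_num) (by exact_mod_cast h.hp.one_lt)).symm
      have h3 := Int.modEq_iff_dvd.mp (h2.symm.trans h1)
      have hnz : δ * (e : ℤ) - 1 ≠ 0 := by rcases hB.sign with e' | e' <;> subst e' <;> omega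
      have h4 := Int.natAbs_le_of_dvd_ne_zero h3 hnz
      have h5 : 2 * e ≤ n * e := Nat.mul_le_mul_right e hn2
      rcases hB.sign with e' | e' <;> subst e' <;> omega
  have h1X : one ∈ X ∧ a one = 1 := hmemX one (by
    simp [one, deg, Nat.mod_eq_of_lt h.hp.one_lt]) fun y _ => rfl
  have hXsX : ∀ θ ∈ Xs, θ ∈ X ∧ a θ = 1 := by
    intro θ hθ
    refine hmemX θ (by rw [hXdeg θ hθ, Nat.add_mod_left, Nat.mod_eq_of_lt h.hp.one_lt]) fun y hy => ?_
    obtain ⟨l, hl, rfl⟩ := Finset.mem_image.mp hθ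
    rw [← hf l (Finset.ne_of_mem_erase hl)]
    exact h.wl_P l y.2 (mem_nonOne.mp hy)
  set A := insert one Xs with hA
  have hAX : A ⊆ X := Finset.insert_subset h1X.1 fun θ hθ => (hXsX θ hθ).1
  -- the bound
  have hbound : ∀ θ, θ ∉ A → ∃ k : ℕ, ∑ y : (S : Subgroup G), (θ : G → ℂ) (y : G) = (p : ℂ) * k ∧
      p * k ≤ deg (θ : G → ℂ) := by
    intro θ hθ
    rw [hA, Finset.mem_insert, not_or] at hθ
    refine h.sum_P_le ho θ (fun e1 => hθ.1 (Subtype.ext e1)) fun l hl e1 => hθ.2 ?_
    rw [show θ = f l from Subtype.ext (e1.trans (hf l hl))]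
    exact Finset.mem_image_of_mem f (Finset.mem_erase.mpr ⟨hl, Finset.mem_univ _⟩)
  have hsplit : ∀ θ : IrrCharacter G, ∑ y : (S : Subgroup G), (θ : G → ℂ) (y : G) =
      (deg (θ : G → ℂ) : ℂ) + ∑ y ∈ nonOne S, (θ : G → ℂ) (y : G) := by
    intro θ
    rw [show (nonOne S) = Finset.univ.erase 1 by ext y; simp [mem_nonOne],
      Finset.sum_erase_eq_sub (Finset.mem_univ _), OneMemClass.coe_one,
      char_one_eq_deg (irr_isCharacter θ.2)]
    ring
  have hcardn : ((nonOne S).card : ℂ) = (p : ℂ) - 1 := by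
    rw [show ((nonOne S).card : ℂ) = ∑ y ∈ nonOne S, (1 : ℂ) by simp,
      show (nonOne S) = Finset.univ.erase 1 by ext y; simp [mem_nonOne],
      Finset.sum_erase_eq_sub (Finset.mem_univ _)]
    simp [← Nat.card_eq_fintype_card, h.cardP]
  choose! k hk hkle using hbound
  have hneg : ∀ θ ∈ X \ A, a θ = -1 ∧ (deg (θ : G → ℂ) : ℤ) = p * k θ + (p - 1) := by
    intro θ hθ
    obtain ⟨hθX, hθA⟩ := Finset.mem_sdiff.mp hθ
    have h1 := hk θ hθA
    rw [hsplit, Finset.sum_congr rfl fun y hy => hB.a_val θ hθX y hy, Finset.sum_const, nsmul_eq_mul,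
      hcardn] at h1
    have h2 : (deg (θ : G → ℂ) : ℤ) + ((p : ℤ) - 1) * a θ = (p : ℤ) * k θ := by
      have : (((deg (θ : G → ℂ) : ℤ) + ((p : ℤ) - 1) * a θ : ℤ) : ℂ) = (((p : ℤ) * k θ : ℤ) : ℂ) := by
        push_cast; linear_combination h1
      exact_mod_cast this
    have h3 : ((p * k θ : ℕ) : ℤ) ≤ deg (θ : G → ℂ) := by exact_mod_cast hkle θ hθA
    push_cast at h3
    rcases hB.a_sign θ hθX with e1 | e1
    · rw [e1] at h2; omega
    · exact ⟨e1, by rw [e1] at h2; omega⟩
  obtain ⟨μ, hμ⟩ : Y.Nonempty := by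
    rw [← Finset.card_pos, hB.cardY]
    refine Nat.div_pos ?_ (by omega)
    have := Nat.le_mul_of_pos_left e (Nat.pos_of_ne_zero hn0)
    omega
  set d := deg (μ : G → ℂ) with hd
  have hYdeg : ∀ θ ∈ Y, deg (θ : G → ℂ) = d := by
    intro θ hθ
    have h1 := hB.regY θ hθ μ hμ 1 (by rw [orderOf_one]; exact h.hp.not_dvd_one)
    rw [char_one_eq_deg (irr_isCharacter θ.2), char_one_eq_deg (irr_isCharacter μ.2)] at h1
    exact_mod_cast h1
  have hYA : ∀ θ ∈ Y, θ ∉ A := fun θ hθ hA' => Finset.disjoint_left.mp hB.disj (hAX hA') hθ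
  -- the sign
  have hδ : δ = 1 := by
    have hcol : ∀ y ∈ nonOne S, ∑ θ : IrrCharacter G, (θ : G → ℂ) (y : G) * (deg (θ : G → ℂ) : ℂ) = 0 := by
      intro y hy
      have h1 := second_orth (y : G) 1
      rw [if_neg fun hc => mem_nonOne.mp hy (isConj_one_left.mp hc)] at h1
      rw [← h1]
      exact Finset.sum_congr rfl fun θ _ => by rw [char_one_eq_deg (irr_isCharacter θ.2), Complex.conj_natCast]
    have h0 : ∑ θ : IrrCharacter G, (deg (θ : G → ℂ) : ℂ) * ∑ y ∈ nonOne S, (θ : G → ℂ) (y : G) = 0 := by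
      simp only [Finset.mul_sum]
      rw [Finset.sum_comm]
      refine Finset.sum_eq_zero fun y hy => ?_
      rw [← hcol y hy]
      exact Finset.sum_congr rfl fun θ _ => mul_comm _ _
    rw [← Finset.sum_subset (Finset.subset_univ (X ∪ Y)) fun θ _ hθ => ?_,
      Finset.sum_union hB.disj] at h0
    swap
    · rw [Finset.sum_eq_zero fun y hy => hvan θ (fun hc => hθ (Finset.mem_union.mpr ((hB.mem_iff θ).mp hc))) y hy,
        mul_zero]
    have hX0 : ∑ θ ∈ X, (deg (θ : G → ℂ) : ℂ) * ∑ y ∈ nonOne S, (θ : G → ℂ) (y : G) =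
        ((p : ℂ) - 1) * ((δ : ℂ) * d) := by
      have hrel := hB.rel μ hμ 1 (by rw [orderOf_one]; exact h.hp.not_dvd_one)
      rw [char_one_eq_deg (irr_isCharacter μ.2)] at hrel
      rw [hd, hrel, Finset.mul_sum]
      refine Finset.sum_congr rfl fun θ hθ => ?_
      rw [Finset.sum_congr rfl fun y hy => hB.a_val θ hθ y hy, Finset.sum_const, nsmul_eq_mul, hcardn,
        char_one_eq_deg (irr_isCharacter θ.2)]
      ring
    have hY0 : ∑ θ ∈ Y, (deg (θ : G → ℂ) : ℂ) * ∑ y ∈ nonOne S, (θ : G → ℂ) (y : G) =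
        (d : ℂ) * ((∑ θ ∈ Y, ((p : ℤ) * k θ - d) : ℤ) : ℂ) := by
      push_cast
      rw [Finset.mul_sum]
      refine Finset.sum_congr rfl fun θ hθ => ?_
      have h1 := hk θ (hYA θ hθ)
      rw [hsplit] at h1
      rw [hYdeg θ hθ] at h1 ⊢
      congr 1
      linear_combination h1
    rw [hX0, hY0] at h0
    have h1 : ((p : ℤ) - 1) * δ + ∑ θ ∈ Y, ((p : ℤ) * k θ - d) = 0 := by
      have : (((d : ℤ) * (((p : ℤ) - 1) * δ + ∑ θ ∈ Y, ((p : ℤ) * k θ - d)) : ℤ) : ℂ) = ((0 : ℤ) : ℂ) := by
        push_cast at h0 ⊢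
        linear_combination h0
      have := Int.cast_injective this
      exact (mul_eq_zero.mp this).resolve_left (by have := deg_pos μ.2; omega)
    have h2 : ∑ θ ∈ Y, ((p : ℤ) * k θ - d) ≤ 0 := Finset.sum_nonpos fun θ hθ => by
      have := hkle θ (hYA θ hθ)
      rw [hYdeg θ hθ] at this
      have : ((p * k θ : ℕ) : ℤ) ≤ d := by exact_mod_cast this
      push_cast at this
      omega
    rcases hB.sign with e1 | e1
    · exact e1
    · rw [e1] at h1; omega
  -- the degree
  have hde : d = e := by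
    have hrel := hB.rel μ hμ 1 (by rw [orderOf_one]; exact h.hp.not_dvd_one)
    rw [hδ, Int.cast_one, one_mul, char_one_eq_deg (irr_isCharacter μ.2), ← hd,
      Finset.sum_congr rfl (g := fun θ => ((a θ * deg (θ : G → ℂ) : ℤ) : ℂ)) fun θ _ => by
        rw [char_one_eq_deg (irr_isCharacter θ.2)]; push_cast; ring] at hrel
    have hz : (d : ℤ) = ∑ θ ∈ X, a θ * deg (θ : G → ℂ) := by
      have : ((d : ℤ) : ℂ) = ((∑ θ ∈ X, a θ * deg (θ : G → ℂ) : ℤ) : ℂ) := by
        push_cast at hrel ⊢; exact hrel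
      exact_mod_cast this
    rw [← Finset.sum_sdiff hAX, hA, Finset.sum_insert hone, h1X.2] at hz
    rw [Finset.sum_congr (rfl : Xs = Xs) (g := fun _ => ((p : ℤ) + 1)) fun θ hθ => by
      rw [(hXsX θ hθ).2, hXdeg θ hθ]; push_cast; ring] at hz
    rw [show deg (one : G → ℂ) = 1 by simp [one, deg], ← hA] at hz
    rw [Finset.sum_congr (rfl : X \ A = X \ A) (g := fun θ => -((p : ℤ) * k θ) - ((p : ℤ) - 1)) fun θ hθ => by
      rw [(hneg θ hθ).1, (hneg θ hθ).2]; ring, Finset.sum_sub_distrib, Finset.sum_neg_distrib,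
      ← Finset.mul_sum, Finset.sum_const, Finset.sum_const, nsmul_eq_mul, nsmul_eq_mul] at hz
    have hc : ((X \ A).card : ℤ) = Xs.card := by
      have h1 := Finset.card_sdiff_add_card_eq_card hAX
      rw [hA, Finset.card_insert_of_notMem hone, hB.cardX, ← hA] at h1
      omega
    rw [hc] at hz
    set K := ∑ θ ∈ X \ A, (k θ : ℤ)
    have hK : 0 ≤ K := Finset.sum_nonneg fun θ _ => Int.natCast_nonneg _
    have hXc : 2 * (Xs.card : ℤ) + 1 = e := by exact_mod_cast hXcard
    have hz' : (d : ℤ) = (e : ℤ) - p * K := by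
      push_cast at hz
      linear_combination hz + hXc
    have hd0 : 0 < d := deg_pos μ.2
    rcases eq_or_lt_of_le hK with hK0 | hK1
    · rw [← hK0, mul_zero, sub_zero] at hz'; exact_mod_cast hz'
    · have : (p : ℤ) * 1 ≤ p * K := mul_le_mul_of_nonneg_left hK1 (by omega)
      have h5 : 2 * e ≤ n * e := Nat.mul_le_mul_right e hn2
      omega
  -- the square
  have hμA := hYA μ hμ
  have hμ1 : (μ : G → ℂ) ≠ fun _ => 1 := fun e1 => hμA (by
    rw [show μ = one from Subtype.ext e1, hA]; exact Finset.mem_insert_self _ _)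
  have hμχ : μ ≠ χ := fun e1 => by
    have h1 := h.deg_eq
    rw [← e1, char_one_eq_deg (irr_isCharacter μ.2), ← hd, hde] at h1
    have h1' : e = p := by exact_mod_cast h1
    have h5 : 2 * e ≤ n * e := Nat.mul_le_mul_right e hn2
    omega
  have hμvan : ∀ x : E, x ≠ 1 → (μ : G → ℂ) (x : G) = 0 := fun x hx =>
    h.vanish_other μ hμ1 hμχ (fun l hl => by
      rw [hf l hl, irrC_orth, if_neg]
      intro e1
      exact hμA (by
        rw [← e1, hA]
        exact Finset.mem_insert_of_mem (Finset.mem_image_of_mem f (Finset.mem_erase.mpr ⟨hl, Finset.mem_univ _⟩)))) hx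
  set Φ : G → ℂ := (μ : G → ℂ) * fun g => conj ((μ : G → ℂ) g) with hΦdef
  have hΦ : IsCharacter G Φ := isCharacter_mul (irr_isCharacter μ.2) (isCharacter_conj (irr_isCharacter μ.2))
  obtain ⟨m, hm⟩ := exists_decomposition hΦ
  have hΦ1 : classInner Φ (fun _ => 1) = 1 := by
    refine Eq.trans ?_ (irr_self μ.2)
    simp only [classInner, hΦdef, Pi.mul_apply, map_one, mul_one]
  have hm1 : m one = 1 := by
    have := decomposition_coeff m hm one
    rw [show (one : G → ℂ) = fun _ => 1 from rfl, hΦ1] at this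
    exact_mod_cast this.symm
  have hmX : ∀ θ ∈ Xs, 1 ≤ m θ := by
    intro θ hθ
    obtain ⟨l, hl, rfl⟩ := Finset.mem_image.mp hθ
    have hl1 : l ≠ 1 := Finset.ne_of_mem_erase hl
    have h1 := decomposition_coeff m hm (f l)
    rw [← hf l hl1, ← classInner_symm, wl, classInner_add_left, classInner_add_left,
      classInner_gl l (isClassFunction_character hΦ)] at h1
    rw [Finset.sum_eq_zero fun x _ => ?_, mul_zero, zero_add, ← classInner_symm Φ (χ : G → ℂ),
      ← classInner_symm Φ (fun _ => 1), hΦ1, decomposition_coeff m hm χ, map_one, map_add, map_one,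
      Complex.conj_conj] at h1
    · have h2 : 1 + m χ = m (f l) := by exact_mod_cast h1
      omega
    · by_cases hx : x = 1
      · subst hx; simp [lc_one]
      · simp [hΦdef, hμvan x hx]
  have hsq : 1 + Xs.card * (p + 1) ≤ e * e := by
    have h1 := congrFun hm 1
    rw [hΦdef, Pi.mul_apply, char_one_eq_deg (irr_isCharacter μ.2), Complex.conj_natCast, ← hd, hde,
      Finset.sum_apply] at h1
    have h2 : e * e = ∑ θ : IrrCharacter G, m θ * deg (θ : G → ℂ) := by
      have : ((e * e : ℕ) : ℂ) = ((∑ θ : IrrCharacter G, m θ * deg (θ : G → ℂ) : ℕ) : ℂ) := by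
        push_cast
        rw [h1]
        refine Finset.sum_congr rfl fun θ _ => ?_
        rw [Pi.smul_apply, char_one_eq_deg (irr_isCharacter θ.2), nsmul_eq_mul]
      exact_mod_cast this
    rw [h2]
    refine le_trans ?_ (Finset.sum_le_sum_of_subset (Finset.subset_univ A))
    rw [hA, Finset.sum_insert hone, hm1, show deg (one : G → ℂ) = 1 by simp [one, deg], mul_one]
    refine Nat.add_le_add_left ?_ 1
    rw [← smul_eq_mul, ← Finset.sum_const]
    exact Finset.sum_le_sum fun θ hθ => by
      rw [hXdeg θ hθ]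
      exact Nat.le_mul_of_pos_left _ (hmX θ hθ)
  have hn : n = 2 := by
    by_contra hne
    have hn4 : 4 ≤ n := by
      have := Nat.even_iff.mp h.n_even
      omega
    have h5 : 4 * e ≤ n * e := Nat.mul_le_mul_right e hn4
    nlinarith
  exact ⟨by rw [hpe, hn], μ, hde⟩

/-- The odd case gives `PSL(2, p)`. -/
theorem odd_psl (h : Ctx p n P E u χ) (ho : Odd (Nat.card E)) [Fact p.Prime] :
    Nonempty (G ≃* Matrix.ProjectiveSpecialLinearGroup (Fin 2) (ZMod p)) := by
  classical
  haveI := h.simple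
  obtain ⟨hp, μ, hμ⟩ := h.odd_main ho
  have hdiv : p ∣ Nat.card G := h.cardP ▸ P.card_subgroup_dvd_card
  have hnn : ∀ H : Subgroup G, H.Normal → Nat.card H ≠ p := by
    intro H hH hc
    rcases hH.eq_bot_or_eq_top with e | e
    · rw [e, Subgroup.card_bot] at hc; exact h.hp.ne_one hc.symm
    · rw [e, Subgroup.card_top] at hc
      haveI : IsCyclic G := isCyclic_of_prime_card (p := p) hc
      have hperf := h.perfect
      rw [commutator_def, Subgroup.commutator_eq_bot_iff_le_centralizer.mpr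
        (fun a _ b _ => ((IsCyclic.commGroup (α := G)).mul_comm b a))] at hperf
      have : Nontrivial G := h.simple.toNontrivial
      exact bot_ne_top hperf
  obtain ⟨d, ρ, hρ, hχ⟩ := id μ.2
  have hde : deg (μ : G → ℂ) = d := by
    rw [← hχ, deg_character, Module.finrank_fin_fun]
  have hinj : Function.Injective ρ := by
    rcases (MonoidHom.normal_ker ρ).eq_bot_or_eq_top with h1 | h1
    · exact (MonoidHom.ker_eq_bot_iff ρ).mp h1
    · exfalso
      have hone : ∀ g, ρ g = 1 := fun g => by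
        have : g ∈ ρ.ker := h1 ▸ Subgroup.mem_top g
        exact this
      have h2 := irr_self μ.2
      have h3 : (μ : G → ℂ) = fun _ => (d : ℂ) := by
        rw [← hχ]; funext g
        show LinearMap.trace ℂ _ (ρ g) = _
        rw [hone, LinearMap.trace_one, Module.finrank_fin_fun]
      rw [h3, classInner] at h2
      have hG : (Nat.card G : ℂ) ≠ 0 := Nat.cast_ne_zero.mpr Nat.card_pos.ne'
      rw [Complex.conj_natCast, Finset.sum_const, Finset.card_univ, ← Nat.card_eq_fintype_card,
        nsmul_eq_mul, inv_mul_cancel_left₀ hG] at h2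
      have hdd : d * d = 1 := by exact_mod_cast h2
      have := Nat.eq_one_of_mul_eq_one_right hdd
      have := h.two_le
      omega
  obtain ⟨e⟩ := HalfDegree.main (n := d) (by omega) hdiv h.sylow hnn ρ hinj
  have hc : Subgroup.center G = ⊥ := by
    rcases (inferInstance : (Subgroup.center G).Normal).eq_bot_or_eq_top with h1 | h1
    · exact h1
    · exfalso
      have hperf := h.perfect
      rw [commutator_def, Subgroup.commutator_eq_bot_iff_le_centralizer.mpr
        (fun a _ b _ => Subgroup.mem_center_iff.mp (h1 ▸ Subgroup.mem_top a) b)] at hperf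
      have : Nontrivial G := h.simple.toNontrivial
      exact bot_ne_top hperf
  exact ⟨(QuotientGroup.quotientBot.symm.trans (QuotientGroup.quotientMulEquivOfEq hc.symm)).trans e⟩

end Cfsg.Agent.Char.UniqueP.Ctx
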