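import Cfsg.Agent.Lib.Char.UniqueP.Base
import Cfsg.Agent.Lib.Char.UniqueP.Odd
import Cfsg.Agent.Lib.Char.UniqueP.Even
import Cfsg.Agent.Lib.Char.BlockBasic
import Cfsg.Agent.Lib.Char.Coprime
import Cfsg.Agent.Lib.Classical.Dickson.Tools
import Cfsg.Agent.Lib.Lie.OrderSixty
import Mathlib

/-!
# Prime degree with a single character of that degree and a trivial intersection complement
-/

set_option autoImplicit false
set_option linter.unusedSectionVars false
set_option linter.style.haveILetI false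

open scoped ComplexConjugate commutatorElement

namespace Cfsg.Agent.Char.UniqueP

open Cfsg Cfsg.Agent Cfsg.Agent.Char Equiv

universe u

variable {α : Type u} [Fintype α] [DecidableEq α] {p : ℕ} [Fact p.Prime] {G : Subgroup (Perm α)}
  {E : Subgroup G}

theorem card_normalizer_sylow (P : Sylow p G) (hcard : Nat.card (P : Subgroup G) = p)
    (hPE : (P : Subgroup G) ⊔ E = Subgroup.normalizer ((P : Subgroup G) : Set G))
    (hPE' : (P : Subgroup G) ⊓ E = ⊥)
    (hmul : ∀ g ∈ Subgroup.normalizer ((P : Subgroup G) : Set G), ∃ y ∈ (P : Subgroup G), ∃ x ∈ E, g = y * x) :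
    Nat.card (Subgroup.normalizer ((P : Subgroup G) : Set G)) = p * Nat.card E := by
  let f : ↥(P : Subgroup G) × ↥E → Subgroup.normalizer ((P : Subgroup G) : Set G) := fun q =>
    ⟨(q.1 : G) * (q.2 : G), mul_mem (Subgroup.le_normalizer q.1.2) (hPE.le (Subgroup.mem_sup_right q.2.2))⟩
  have hf : Function.Bijective f := by
    refine ⟨fun a b e => ?_, fun g => ?_⟩
    · have e' : (a.1 : G) * (a.2 : G) = (b.1 : G) * (b.2 : G) := congrArg Subtype.val e
      have h1 : (b.1 : G)⁻¹ * a.1 = (b.2 : G) * (a.2 : G)⁻¹ := by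
        rw [inv_mul_eq_iff_eq_mul, ← mul_assoc, eq_mul_inv_iff_mul_eq, e']
      have h2 : (b.1 : G)⁻¹ * a.1 ∈ (P : Subgroup G) ⊓ E :=
        ⟨Subgroup.mul_mem _ (Subgroup.inv_mem _ b.1.2) a.1.2, h1 ▸ Subgroup.mul_mem _ b.2.2 (Subgroup.inv_mem _ a.2.2)⟩
      rw [hPE', Subgroup.mem_bot] at h2
      have h3 : (a.1 : G) = b.1 := (inv_mul_eq_one.mp h2).symm
      rw [h3] at e'
      exact Prod.ext (Subtype.ext h3) (Subtype.ext (mul_left_cancel e'))
    · obtain ⟨y, hy, x, hx, e⟩ := hmul g g.2
      exact ⟨(⟨y, hy⟩, ⟨x, hx⟩), Subtype.ext e.symm⟩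
  rw [← Nat.card_eq_of_bijective f hf, Nat.card_prod, hcard]

/-- With a single character of degree `p`, the Sylow subgroup is not normal. -/
theorem not_normal_of_char [Fintype G] (P : Sylow p G) (χ : IrrCharacter G) (hdeg : deg (χ : G → ℂ) = p) {e : ℕ}
    (he : e ∣ p - 1) (hN : Nat.card (Subgroup.normalizer ((P : Subgroup G) : Set G)) = p * e) :
    ¬ (P : Subgroup G).Normal := by
  intro hn
  rw [Subgroup.normalizer_eq_top_iff.mpr hn, Subgroup.card_top] at hN
  have hp := (Fact.out : p.Prime)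
  have hle : e ≤ p - 1 := Nat.le_of_dvd (by have := hp.two_le; omega) he
  have h1 := congrArg Complex.re (sum_sq_deg (G := G))
  rw [Complex.re_sum, Complex.natCast_re] at h1
  have h2 : ∀ ψ : IrrCharacter G, 0 ≤ ((ψ : G → ℂ) 1 ^ 2).re := fun ψ => by
    rw [char_one_eq_deg (irr_isCharacter ψ.2), ← Nat.cast_pow, Complex.natCast_re]
    exact Nat.cast_nonneg _
  have h3 := Finset.single_le_sum (fun ψ _ => h2 ψ) (Finset.mem_univ χ)
  rw [h1, char_one_eq_deg (irr_isCharacter χ.2), hdeg, ← Nat.cast_pow, Complex.natCast_re, Nat.cast_le, hN,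
    pow_two] at h3
  have := Nat.le_of_mul_le_mul_left h3 hp.pos
  have := hp.two_le
  omega

/-- A group generated by a normal subgroup and a commutative one has its commutators in the former. -/
theorem commutator_le_of_sup {H : Type u} [Group H] (T C : Subgroup H) [T.Normal]
    (hC : ∀ a ∈ C, ∀ b ∈ C, a * b = b * a) (hsup : T ⊔ C = ⊤) : commutator H ≤ T := by
  rw [commutator_def, Subgroup.commutator_le]
  have hs : ∀ g : H, ∃ x ∈ C, (g : H ⧸ T) = (x : H ⧸ T) := by
    intro g
    have hg : g ∈ T ⊔ C := hsup ▸ Subgroup.mem_top g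
    rw [← SetLike.mem_coe, Subgroup.normal_mul T C] at hg
    obtain ⟨t, ht, x, hx, rfl⟩ := hg
    exact ⟨x, hx, by rw [QuotientGroup.mk_mul, (QuotientGroup.eq_one_iff t).mpr ht, one_mul]⟩
  intro a _ b _
  obtain ⟨x, hx, ha⟩ := hs a
  obtain ⟨y, hy, hb⟩ := hs b
  rw [← QuotientGroup.eq_one_iff, commutatorElement_def, QuotientGroup.mk_mul, QuotientGroup.mk_mul,
    QuotientGroup.mk_mul, QuotientGroup.mk_inv, QuotientGroup.mk_inv, ha, hb, ← QuotientGroup.mk_inv,
    ← QuotientGroup.mk_inv, ← QuotientGroup.mk_mul, ← QuotientGroup.mk_mul, ← QuotientGroup.mk_mul,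
    hC x hx y hy, mul_inv_cancel_right, mul_inv_cancel, QuotientGroup.mk_one]

/-- A nontrivial normal subgroup is everything. -/
theorem normal_eq_top [Fintype G] (hα : Fintype.card α = p) [MulAction.IsPretransitive G α] (P : Sylow p G)
    (hPE : (P : Subgroup G) ⊔ E = Subgroup.normalizer ((P : Subgroup G) : Set G))
    (hcE : ∀ a ∈ E, ∀ b ∈ E, a * b = b * a) (χ : IrrCharacter G)
    (huniq : ∀ ψ : IrrCharacter G, (ψ : G → ℂ) 1 = (χ : G → ℂ) 1 → ψ = χ)
    (hval : ∀ x ∈ E, x ≠ 1 → (χ : G → ℂ) x ≠ 0) (T : Subgroup G) [T.Normal] (hT : T ≠ ⊥) : T = ⊤ := by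
  have hp := (Fact.out : p.Prime)
  obtain ⟨hcard, -, -⟩ := card_sylow_prime hα P
  have hX : Nat.card α = p := by rw [Nat.card_eq_fintype_card, hα]
  obtain ⟨a⟩ : Nonempty α := Fintype.card_pos_iff.mp (hα ▸ hp.pos)
  haveI : MulAction.IsPretransitive T α := by
    refine Solv.PSq.normal_transitive hp hX T ?_
    by_contra hno
    push Not at hno
    exact hT ((Subgroup.eq_bot_iff_forall _).mpr fun g hg => Subtype.ext (Equiv.ext fun x => hno g hg x))
  have hpT : p ∣ Nat.card T := by
    have := (MulAction.stabilizer T a).index_dvd_card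
    rwa [MulAction.index_stabilizer_of_transitive, hX] at this
  have hPT : (P : Subgroup G) ≤ T := by
    obtain ⟨x, hx⟩ := exists_prime_orderOf_dvd_card' p hpT
    have hx' : orderOf (x : G) = p := by rw [Subgroup.orderOf_coe, hx]
    obtain ⟨Q, hQ⟩ := (IsPGroup.of_card (n := 1) (by rw [Nat.card_zpowers, hx', pow_one]) :
      IsPGroup p (Subgroup.zpowers (x : G))).exists_le_sylow
    have hQc : Nat.card (Q : Subgroup G) = p := by rw [Nat.card_congr (Sylow.equiv Q P).toEquiv, hcard]
    have hQe : Subgroup.zpowers (x : G) = (Q : Subgroup G) :=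
      Subgroup.eq_of_le_of_card_ge hQ (by rw [hQc, Nat.card_zpowers, hx'])
    obtain ⟨g, hg⟩ := MulAction.exists_smul_eq G Q P
    have hQN : (Q : Subgroup G) ≤ T := hQe ▸ Subgroup.zpowers_le.mpr x.2
    intro y hy
    rw [← hg] at hy
    have hy' := (Subgroup.mem_pointwise_smul_iff_inv_smul_mem (S := (Q : Subgroup G))
      (a := MulAut.conj g)).mp hy
    have := (inferInstance : T.Normal).conj_mem _ (hQN hy') g
    simpa [mul_assoc] using this
  have hQmap : ((P.subtype hPT : Sylow p T) : Subgroup T).map T.subtype = (P : Subgroup G) := by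
    rw [Sylow.coe_subtype, Subgroup.subgroupOf_map_subtype, inf_eq_left.mpr hPT]
  have hfr := Sylow.normalizer_sup_eq_top (P.subtype hPT)
  rw [hQmap, ← hPE] at hfr
  have hTE : T ⊔ E = ⊤ :=
    top_unique (hfr ▸ sup_le (sup_le (hPT.trans le_sup_left) le_sup_right) le_sup_left)
  by_cases hET : E ≤ T
  · rwa [sup_eq_left.mpr hET] at hTE
  exfalso
  obtain ⟨x₀, hx₀, hx₀T⟩ := SetLike.not_le_iff_exists.mp hET
  have hx₀1 : x₀ ≠ 1 := fun e => hx₀T (e ▸ one_mem T)
  have hnc : x₀ ∉ commutator G := fun hc => hx₀T (commutator_le_of_sup T E hcE hTE hc)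
  haveI : NeZero (Monoid.exponent (Abelianization G)) := ⟨Monoid.exponent_ne_zero_of_finite⟩
  obtain ⟨f, hf⟩ := CommGroup.exists_apply_ne_one_of_hasEnoughRootsOfUnity (Abelianization G) ℂ
    (a := Abelianization.of x₀) (fun e => hnc ((QuotientGroup.eq_one_iff x₀).1 e))
  set l : G →* ℂˣ := f.comp Abelianization.of with hl
  have h1 := congrFun (congrArg Subtype.val (huniq ⟨_, isIrr_linear_mul χ.2 l⟩ (by simp))) x₀
  have h2 : ((l x₀ : ℂ) - 1) * (χ : G → ℂ) x₀ = 0 := by linear_combination h1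
  rcases mul_eq_zero.1 h2 with e | e
  · exact hf (Units.ext (sub_eq_zero.1 e))
  · exact hval x₀ hx₀ hx₀1 e

/-- The standing hypotheses hold. -/
theorem exists_ctx [Fintype G] (hα : Fintype.card α = p) [MulAction.IsPretransitive G α]
    (huniq : ∃! χ : IrrCharacter G, charDegree (χ : G → ℂ) = p) (P : Sylow p G)
    (hPE : (P : Subgroup G) ⊔ E = Subgroup.normalizer ((P : Subgroup G) : Set G))
    (hPE' : (P : Subgroup G) ⊓ E = ⊥)
    (hNE : Nat.card (Subgroup.normalizer (E : Set G)) = 2 * Nat.card E)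
    (hTI : ∀ g : G, g ∉ Subgroup.normalizer (E : Set G) → E ⊓ E.map (MulAut.conj g).toMonoidHom = ⊥) :
    ∃ (n : ℕ) (u : G) (χ : IrrCharacter G), Ctx p n (P : Subgroup G) E u χ := by
  classical
  letI : Fintype (↥(P : Subgroup G)) := Fintype.ofFinite _
  letI : Fintype E := Fintype.ofFinite _
  letI : Fintype (↥E →* ℂˣ) := Fintype.ofFinite _
  have hp := (Fact.out : p.Prime)
  obtain ⟨χ, hχ, hχu⟩ := huniq
  have hdeg : deg (χ : G → ℂ) = p := hχ
  obtain ⟨hcard, hpG, hsq⟩ := card_sylow_prime hα P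
  obtain ⟨hloc, hcyc, hdvd, hmul⟩ := exists_loc hα P hPE hPE'
  have hNP := card_normalizer_sylow P hcard hPE hPE' hmul
  have hnn := not_normal_of_char P χ hdeg hdvd hNP
  have he2 : 2 ≤ Nat.card E := by
    by_contra hlt
    have he1 : Nat.card E = 1 := by have : 0 < Nat.card E := Nat.card_pos; omega
    have hE := Subgroup.card_eq_one.mp he1
    have h1 := hNE
    rw [he1, hE, Subgroup.normalizer_eq_top_iff.mpr inferInstance, Subgroup.card_top] at h1
    rw [h1, mul_one] at hpG
    have hp2 : p = 2 := (Nat.prime_dvd_prime_iff_eq hp Nat.prime_two).mp hpG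
    exact hnn (by
      rw [Subgroup.eq_top_of_card_eq (P : Subgroup G) (by rw [hcard, h1, hp2])]
      infer_instance)
  have hp5 : 5 ≤ p := by
    by_contra hlt
    have h2p := hp.two_le
    have hle : Nat.card E ≤ p - 1 := Nat.le_of_dvd (by omega) hdvd
    have hp3 : p = 3 := by
      rcases (show p = 3 ∨ p = 4 by omega) with e | e
      · exact e
      · rw [e] at hp; norm_num at hp
    have hG6 : Nat.card G ∣ 6 := by
      have := Subgroup.card_subgroup_dvd_card G
      rwa [Nat.card_eq_fintype_card (α := Perm α), Fintype.card_perm, hα, hp3] at this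
    have hi : p * (P : Subgroup G).index = Nat.card G := by
      have h1 := (P : Subgroup G).card_mul_index
      rwa [hcard] at h1
    have hi2 : (P : Subgroup G).index ∣ 2 :=
      (Nat.mul_dvd_mul_iff_left (by norm_num : 0 < 3)).mp (by rw [← hp3, hi, hp3]; exact hG6)
    rcases Nat.prime_two.eq_one_or_self_of_dvd _ hi2 with e | e
    · exact hnn (by rw [Subgroup.index_eq_one.mp e]; infer_instance)
    · exact hnn (Subgroup.normal_of_index_eq_two e)
  set L := Subgroup.normalizer (E : Set G) with hLdef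
  have hEL : E ≤ L := Subgroup.le_normalizer
  obtain ⟨u, hu, hu'⟩ : ∃ u ∈ L, u ∉ E := by
    by_contra hno
    push Not at hno
    have : L = E := le_antisymm hno hEL
    rw [this] at hNE
    omega
  have hidx : (E.subgroupOf L).index = 2 := by
    have h1 := (E.subgroupOf L).index_mul_card
    rw [Nat.card_congr (Subgroup.subgroupOfEquivOfLe hEL).toEquiv, hNE] at h1
    exact Nat.eq_of_mul_eq_mul_right (by omega) h1
  have hL : ∀ q ∈ L, q ∈ E ∨ q * u⁻¹ ∈ E := by
    intro q hq
    by_cases hqE : q ∈ E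
    · exact Or.inl hqE
    refine Or.inr ?_
    have h1 := Subgroup.mul_mem_iff_of_index_two hidx (a := (⟨q, hq⟩ : L)) (b := (⟨u, hu⟩ : L)⁻¹)
    simp only [Subgroup.mem_subgroupOf, Subgroup.coe_mul, InvMemClass.coe_inv, inv_mem_iff] at h1
    exact h1.mpr (iff_of_false hqE hu')
  have hti : ∀ g : G, ∀ x ∈ E, x ≠ 1 → g * x * g⁻¹ ∈ E → g ∈ L := by
    intro g x hx hx1 hgx
    by_contra hg
    have h1 : g * x * g⁻¹ ∈ E ⊓ E.map (MulAut.conj g).toMonoidHom := ⟨hgx, ⟨x, hx, rfl⟩⟩
    rw [hTI g hg, Subgroup.mem_bot, conj_eq_one_iff] at h1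
    exact hx1 h1
  obtain ⟨n, hn⟩ := hdvd
  have hpn : p = n * Nat.card E + 1 := by rw [mul_comm, ← hn]; have := hp.two_le; omega
  have hcentP : ∀ y ∈ (P : Subgroup G), y ≠ (1 : G) →
      Subgroup.centralizer ({y} : Set G) = (P : Subgroup G) :=
    fun y hy hy1 => centralizer_eq hα _ hcard hy hy1
  obtain ⟨hP0, l₀, hl₀, hres⟩ := exists_linear_part hloc hcentP hsq hpn χ hdeg
  have hχ1 : (χ : G → ℂ) 1 = p := by rw [char_one_eq_deg (irr_isCharacter χ.2), hdeg]
  have hu1 : ∀ ψ : IrrCharacter G, (ψ : G → ℂ) 1 = p → ψ = χ := by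
    intro ψ hψ
    refine hχu ψ ?_
    show deg (ψ : G → ℂ) = p
    rw [char_one_eq_deg (irr_isCharacter ψ.2)] at hψ
    exact_mod_cast hψ
  have hval : ∀ x ∈ E, x ≠ 1 → (χ : G → ℂ) x ≠ 0 := fun x hx hx1 => by
    have h0 := hl₀ ⟨x, hx⟩ (fun e => hx1 (congrArg Subtype.val e))
    simp only at h0
    rw [h0]
    exact Units.ne_zero _
  have htop : ∀ T : Subgroup G, T.Normal → T ≠ ⊥ → T = ⊤ := fun T hTn hT =>
    normal_eq_top hα P hPE hloc.comm χ (fun ψ hψ => hu1 ψ (hψ.trans hχ1)) hval T hT
  haveI : Nontrivial G := by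
    refine Finite.one_lt_card_iff_nontrivial.mp ?_
    have := Nat.le_of_dvd Nat.card_pos hpG
    omega
  have hsimple : IsSimpleGroup G :=
    { eq_bot_or_eq_top_of_normal := fun T hT => (eq_or_ne T ⊥).imp id (htop T hT) }
  have hperf : commutator G = ⊤ := by
    refine htop _ inferInstance fun e => hnn ⟨fun y hy g => ?_⟩
    rw [commutator_def, Subgroup.commutator_eq_bot_iff_le_centralizer] at e
    have := Subgroup.mem_centralizer_iff.mp (e (Subgroup.mem_top g)) y (Subgroup.mem_top y)
    rwa [← this, mul_inv_cancel_right]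
  have hne : Even n := by
    rcases Nat.even_or_odd (Nat.card E) with he | he
    · obtain ⟨v, hv⟩ := hcyc.exists_generator
      have hvo : orderOf (v : G) = Nat.card E := by
        rw [Subgroup.orderOf_coe, orderOf_eq_card_of_forall_mem_zpowers hv]
      have hv1 : (v : G) ≠ 1 := fun e => by rw [e, orderOf_one] at hvo; omega
      obtain ⟨-, k, hk, hsign⟩ := fixed_point hα P hcard hPE' hloc (Dvd.intro n hn.symm) v.2 hv1
      rw [hvo] at hk hsign
      have hkn : k = n := Nat.eq_of_mul_eq_mul_right (by omega : 0 < Nat.card E) (by omega)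
      subst hkn
      have h1 := Abelianization.commutator_subset_ker ((Perm.sign : Perm α →* ℤˣ).comp G.subtype)
      rw [hperf] at h1
      have h2 : Perm.sign ((v : G) : Perm α) = 1 := h1 (Subgroup.mem_top (v : G))
      rw [hsign, neg_one_pow_eq_one_iff_even (by decide)] at h2
      rw [Nat.even_add] at h2
      exact h2.mp (he.mul_left k)
    · have : Even (n * Nat.card E) := by
        have h1 : n * Nat.card E = p - 1 := by omega
        rw [h1]
        exact Nat.Odd.sub_odd (hp.odd_of_ne_two (by omega)) odd_one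
      exact (Nat.even_mul.mp this).resolve_right (Nat.not_even_iff_odd.mpr he)
  refine ⟨n, u, χ, ⟨hloc, hp5, hcentP, hsq, he2, hne, hpn, hcyc, hu, hu', hL, hti, hperf, hsimple, hχ1, hu1,
    fun x hx hx1 => ?_, hP0⟩⟩
  have h0 := hl₀ ⟨x, hx⟩ (fun e => hx1 (congrArg Subtype.val e))
  simp only at h0
  rw [h0]
  exact linear_part_trivial hne hperf χ l₀ hres ⟨x, hx⟩

/-- A subgroup of prime index in `PSL(2, p)` forces `p ≤ 11`. -/
theorem prime_index_small {H : Subgroup (Matrix.ProjectiveSpecialLinearGroup (Fin 2) (ZMod p))}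
    (h5 : 5 ≤ p) (hidx : H.index = p) : p = 5 ∨ p = 7 ∨ p = 11 := by
  have hp := (Fact.out : p.Prime)
  have hg : Nat.gcd 2 (p - 1) = 2 := by
    refine Nat.gcd_eq_left ?_
    rcases hp.eq_two_or_odd with h | h <;> omega
  have hF : Fintype.card (ZMod p) = p := ZMod.card p
  have hpsl := Classical.Dickson.card_psl (ZMod p)
  rw [hF, hg, ← H.index_mul_card, hidx] at hpsl
  have hH : 2 * Nat.card H = p ^ 2 - 1 :=
    Nat.eq_of_mul_eq_mul_left hp.pos (by rw [← mul_assoc, mul_comm p 2, mul_assoc, mul_comm 2 (p * _), hpsl])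
  have h1 : 1 ≤ p ^ 2 := Nat.one_le_pow _ _ hp.pos
  rcases Classical.Dickson.cases_on H with ⟨k, hk, hc⟩ | ⟨g, hg', -⟩ | ⟨-, ⟨e⟩⟩ | ⟨-, ⟨e⟩⟩ | ⟨-, ⟨e⟩⟩ | ⟨K, m, hm, hKm, hc⟩
  · exfalso
    rw [hF, hg] at hk
    have hk' : 2 * k ≤ p + 1 := by
      rcases hk with hk | hk
      · have := Nat.le_of_dvd (by omega) hk; omega
      · have := Nat.le_of_dvd (by omega) hk; omega
    have hle : Nat.card H ≤ p + 1 := by
      rcases hc with ⟨-, hc⟩ | ⟨-, ⟨e⟩⟩
      · omega
      · rw [Nat.card_congr e.toEquiv, DihedralGroup.nat_card]; omega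
    nlinarith [Nat.sub_add_cancel h1]
  · exfalso
    have hb := Classical.Dickson.card_borelP (F := ZMod p)
    rw [hF, hg] at hb
    have hle := Subgroup.card_le_of_le hg'
    rw [show Nat.card (H.map (Small.PSL2.conjP g).toMonoidHom) = Nat.card H from
      Subgroup.card_map_of_injective (Small.PSL2.conjP g).injective] at hle
    nlinarith [Nat.sub_add_cancel h1, Nat.sub_add_cancel (hp.pos : 1 ≤ p)]
  · left
    rw [Nat.card_congr e.toEquiv, nat_card_alternatingGroup, Nat.card_fin] at hH
    have : p ^ 2 = 5 ^ 2 := by norm_num [Nat.factorial] at hH ⊢; omega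
    exact Nat.pow_left_injective two_ne_zero this
  · right; left
    rw [Nat.card_congr e.toEquiv, Nat.card_perm, Nat.card_fin] at hH
    have : p ^ 2 = 7 ^ 2 := by norm_num [Nat.factorial] at hH ⊢; omega
    exact Nat.pow_left_injective two_ne_zero this
  · right; right
    rw [Nat.card_congr e.toEquiv, nat_card_alternatingGroup, Nat.card_fin] at hH
    have : p ^ 2 = 11 ^ 2 := by norm_num [Nat.factorial] at hH ⊢; omega
    exact Nat.pow_left_injective two_ne_zero this
  · exfalso
    rw [hF] at hKm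
    have hK : Nat.card K = p := by
      have h2 : Nat.card K ∣ p :=
        (dvd_pow_self (Nat.card K) (show m ≠ 0 by omega)).trans (dvd_of_eq hKm)
      rcases hp.eq_one_or_self_of_dvd _ h2 with e | e
      · have h3 := Finite.one_lt_card (α := K); omega
      · exact e
    rw [hK] at hc
    rcases hc with ⟨-, hc⟩ | ⟨-, -, hc⟩ <;> nlinarith [Nat.sub_add_cancel h1]

/-- Prime degree with a single character of that degree and a trivial intersection complement. -/
theorem main (hα : Fintype.card α = p) [MulAction.IsPretransitive G α]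
    (huniq : ∃! χ : IrrCharacter G, charDegree (χ : G → ℂ) = p) (P : Sylow p G)
    (hPE : (P : Subgroup G) ⊔ E = Subgroup.normalizer ((P : Subgroup G) : Set G))
    (hPE' : (P : Subgroup G) ⊓ E = ⊥)
    (hNE : Nat.card (Subgroup.normalizer (E : Set G)) = 2 * Nat.card E)
    (hTI : ∀ g : G, g ∉ Subgroup.normalizer (E : Set G) → E ⊓ E.map (MulAut.conj g).toMonoidHom = ⊥) :
    (p = 5 ∨ p = 7 ∨ p = 11) ∧ Nonempty (G ≃* Matrix.ProjectiveSpecialLinearGroup (Fin 2) (ZMod p)) := by
  classical
  letI : Fintype G := Fintype.ofFinite G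
  have hp := (Fact.out : p.Prime)
  obtain ⟨n, u, χ, h⟩ := exists_ctx hα huniq P hPE hPE' hNE hTI
  obtain ⟨hcard, hpG, hsq⟩ := card_sylow_prime hα P
  obtain ⟨-, -, hdvd, hmul⟩ := exists_loc hα P hPE hPE'
  have hX : Nat.card α = p := by rw [Nat.card_eq_fintype_card, hα]
  rcases Nat.even_or_odd (Nat.card E) with he | he
  · haveI : Fact (Nat.Prime 2) := ⟨Nat.prime_two⟩
    obtain ⟨z, hzo⟩ := exists_prime_orderOf_dvd_card' (G := E) 2 (even_iff_two_dvd.mp he)
    have hz : z * z = 1 := by rw [← pow_two, ← hzo, pow_orderOf_eq_one]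
    have hz1 : z ≠ 1 := fun e => by rw [e, orderOf_one] at hzo; omega
    have hz1' : (z : G) ≠ 1 := fun e => hz1 (Subtype.ext e)
    obtain ⟨⟨a, ha, hau⟩, -⟩ := fixed_point hα P hcard hPE' h.toLoc hdvd z.2 hz1'
    have hLH : Subgroup.normalizer (E : Set G) ≤ MulAction.stabilizer G a := by
      intro q hq
      have h1 : (⟨q * z * q⁻¹, h.conj_mem hq z.2⟩ : E) = z := by
        refine h.sq_eq_one_unique (Subtype.ext ?_) hz (fun e => hz1' ?_) hz1
        · show q * z * q⁻¹ * (q * z * q⁻¹) = 1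
          rw [show q * (z : G) * q⁻¹ * (q * z * q⁻¹) = q * ((z : G) * z) * q⁻¹ by group,
            show (z : G) * z = 1 from congrArg Subtype.val hz, mul_one, mul_inv_cancel]
        · have h2 : q * (z : G) * q⁻¹ = 1 := congrArg Subtype.val e
          exact conj_eq_one_iff.mp h2
      have h2 : q * (z : G) = z * q := mul_inv_eq_iff_eq_mul.mp (congrArg Subtype.val h1)
      rw [MulAction.mem_stabilizer_iff]
      refine hau _ ?_
      show ((z : G) * q) • a = q • a
      rw [← h2, mul_smul, show (z : G) • a = a from ha]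
    have hfixH : ∀ z' ∈ E, z' ≠ 1 → z' * z' = 1 → ∀ g : G,
        g * z' * g⁻¹ ∈ MulAction.stabilizer G a → g ∈ MulAction.stabilizer G a := by
      intro z' hz' hz'1 hz'2 g hg
      have h1 : (⟨z', hz'⟩ : E) = z := h.sq_eq_one_unique (Subtype.ext hz'2) hz
        (fun e => hz'1 (congrArg Subtype.val e)) hz1
      obtain rfl : z' = (z : G) := congrArg Subtype.val h1
      rw [MulAction.mem_stabilizer_iff, mul_smul, mul_smul, smul_eq_iff_eq_inv_smul] at hg
      have h2 : g⁻¹ • a = a := hau _ hg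
      rw [MulAction.mem_stabilizer_iff]
      exact (inv_smul_eq_iff.mp h2).symm
    have hidx : (MulAction.stabilizer G a).index = p := by
      rw [MulAction.index_stabilizer_of_transitive, hX]
    have hGH := (MulAction.stabilizer G a).index_mul_card
    rw [hidx] at hGH
    have hbig : 2 * (p + 1) ≤ Nat.card (MulAction.stabilizer G a) := by
      have hN := card_normalizer_sylow P hcard hPE hPE' hmul
      have hs : Nat.card (Sylow p G) = (Subgroup.normalizer ((P : Subgroup G) : Set G)).index :=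
        P.card_eq_index_normalizer
      have hmod := card_sylow_modEq_one p G
      have hns : Nat.card (Sylow p G) ≠ 1 := by
        intro e
        rw [hs, Subgroup.index_eq_one] at e
        replace e : (P : Subgroup G).Normal := Subgroup.normalizer_eq_top_iff.mp e
        rcases h.simple.eq_bot_or_eq_top_of_normal _ e with e' | e'
        · rw [e', Subgroup.card_bot] at hcard; exact hp.ne_one hcard.symm
        · rw [e', Subgroup.card_top] at hcard
          have h3 : Nat.card E * p ∣ Nat.card G := by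
            rw [mul_comm, ← hN]; exact Subgroup.card_subgroup_dvd_card _
          rw [hcard] at h3
          have h4 := Nat.le_of_dvd hp.pos h3
          have h6 : 2 * p ≤ Nat.card E * p := Nat.mul_le_mul_right p h.two_le
          have := hp.pos
          omega
      have hnp : p + 1 ≤ Nat.card (Sylow p G) := by
        have h1 : 0 < Nat.card (Sylow p G) := Nat.card_pos
        by_contra hlt
        rcases (not_le.mp hlt : Nat.card (Sylow p G) < p + 1) |> Nat.lt_succ_iff.mp |>.lt_or_eq with h2 | h2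
        · exact hns (Nat.ModEq.eq_of_lt_of_lt hmod h2 hp.one_lt)
        · rw [Nat.ModEq, h2, Nat.mod_self, Nat.mod_eq_of_lt hp.one_lt] at hmod
          omega
      have hG := (Subgroup.normalizer ((P : Subgroup G) : Set G)).index_mul_card
      rw [← hs, hN, ← hGH] at hG
      have hH : Nat.card (Sylow p G) * Nat.card E = Nat.card (MulAction.stabilizer G a) :=
        Nat.eq_of_mul_eq_mul_left hp.pos (by rw [← hG]; ring)
      rw [← hH, mul_comm 2 (p + 1)]
      exact Nat.mul_le_mul hnp h.two_le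
    have h7 := h.even_lt_seven he _ hidx hLH hfixH hbig
    have hp5 := h.p5
    have hp5' : p = 5 := by
      rcases (show p = 5 ∨ p = 6 by omega) with e | e
      · exact e
      · subst e; norm_num at hp
    subst hp5'
    refine ⟨Or.inl rfl, ?_⟩
    have hA : G ≤ alternatingGroup α := by
      intro g hg
      have h1 := Abelianization.commutator_subset_ker ((Perm.sign : Perm α →* ℤˣ).comp G.subtype)
      rw [h.perfect] at h1
      exact Perm.mem_alternatingGroup.mpr (h1 (Subgroup.mem_top (⟨g, hg⟩ : G)))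
    haveI : Nontrivial α := Fintype.one_lt_card_iff_nontrivial.mp (by omega)
    have h120 := Subgroup.card_dvd_of_le hA
    rw [nat_card_alternatingGroup, hX, show Nat.factorial 5 / 2 = 60 from rfl] at h120
    have h60 : Nat.card G = 60 := by
      have := Nat.le_of_dvd (by norm_num) h120
      omega
    haveI : IsSimpleGroup (Matrix.ProjectiveSpecialLinearGroup (Fin 2) (ZMod 5)) :=
      Matrix.ProjectiveSpecialLinearGroup.rank_two_simple (by rw [Nat.card_zmod]; norm_num)
    haveI := h.simple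
    have hc := Classical.Dickson.card_psl (ZMod 5)
    rw [ZMod.card, show Nat.gcd 2 (5 - 1) = 2 from rfl] at hc
    obtain ⟨e₁⟩ := Lie.simple_sixty h60
    obtain ⟨e₂⟩ := Lie.simple_sixty (G := Matrix.ProjectiveSpecialLinearGroup (Fin 2) (ZMod 5))
      (by norm_num at hc ⊢; omega)
    exact ⟨e₁.trans e₂.symm⟩
  · obtain ⟨e⟩ := h.odd_psl he
    refine ⟨?_, ⟨e⟩⟩
    obtain ⟨a⟩ : Nonempty α := Fintype.card_pos_iff.mp (hα ▸ hp.pos)
    refine prime_index_small (H := (MulAction.stabilizer G a).map e.toMonoidHom) h.p5 ?_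
    exact (Subgroup.index_map_equiv (MulAction.stabilizer G a) e).trans
      ((MulAction.index_stabilizer_of_transitive _ _).trans hX)

end Cfsg.Agent.Char.UniqueP
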