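import Cfsg.Agent.Lib.Char.UniqueP.Local
import Mathlib

/-!
# Witnesses for the direct summands, and what their absence implies
-/

set_option autoImplicit false
set_option linter.unusedSectionVars false
set_option linter.style.haveILetI false

namespace Cfsg.Agent.Char.UniqueP

open Cfsg Matrix

universe u

variable {V : ValuationSubring ℂ} {p : ℕ}

/-- The elements congruent to their `p`-th power modulo `p`. -/
theorem frob_closed (hp : p.Prime) (hpV : ¬ IsUnit (p : V)) :
    ∃ S : Subring V, (∀ a : V, a ^ p = a → a ∈ S) ∧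
      ∀ a ∈ S, ¬ IsUnit a → ∃ b, a = (p : V) * b := by
  haveI : Fact p.Prime := ⟨hp⟩
  let I : Ideal V := Ideal.span {(p : V)}
  have hI : I ≠ ⊤ := fun h => hpV (Ideal.span_singleton_eq_top.mp h)
  let K := V ⧸ I
  haveI : Nontrivial K := Ideal.Quotient.nontrivial_iff.mpr hI
  haveI : CharP K p := (CharP.charP_iff_prime_eq_zero hp).mpr (by
    rw [← map_natCast (Ideal.Quotient.mk I), Ideal.Quotient.eq_zero_iff_mem]
    exact Ideal.mem_span_singleton_self _)
  let q : V →+* K := Ideal.Quotient.mk I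
  refine ⟨RingHom.eqLocus ((_root_.frobenius K p).comp q) q, fun a ha => ?_, fun a ha hu => ?_⟩
  · show q a ^ p = q a
    rw [← map_pow, ha]
  · have h1 : q a ^ p = q a := ha
    rw [← map_pow, Ideal.Quotient.eq, Ideal.mem_span_singleton] at h1
    obtain ⟨b, hb⟩ := h1
    have hu1 : ¬ IsUnit (a ^ (p - 1)) := fun h =>
      hu ((isUnit_pow_iff (by have := hp.two_le; omega)).mp h)
    have h2 : IsUnit (a ^ (p - 1) - 1) := by
      rcases IsLocalRing.isUnit_or_isUnit_of_add_one
        (show a ^ (p - 1) + (-(a ^ (p - 1) - 1)) = 1 by ring) with h | h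
      · exact absurd h hu1
      · exact IsUnit.neg_iff _ |>.mp h
    obtain ⟨w, hw⟩ := h2
    refine ⟨b * ((w⁻¹ : Vˣ) : V), ?_⟩
    rw [← mul_assoc, ← hb, show a ^ p - a = a * (w : V) by
      rw [hw, mul_sub, mul_one, ← pow_succ', Nat.sub_add_cancel hp.one_le], mul_assoc, Units.mul_inv,
      mul_one]

variable {G : Type u} [Group G] [Fintype G] {P E : Subgroup G} [Fintype P] [Fintype E]
  {s : ℕ} (R : G →* Matrix (Fin s) (Fin s) V)

/-- A class function orthogonal to an irreducible representation is annihilated by it. -/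
theorem schur_sum_zero (hs : s ≠ 0)
    (hsch : ∀ X : Matrix (Fin s) (Fin s) V, (∀ g, X * R g = R g * X) →
      ∃ d : V, X = d • (1 : Matrix (Fin s) (Fin s) V))
    (ψ : G → V) (hψ : ∀ g k, ψ (k * g * k⁻¹) = ψ g)
    (horth : ∑ g, ψ g * (R g⁻¹).trace = 0) : ∑ g, ψ g • R g⁻¹ = 0 := by
  obtain ⟨d, hd⟩ := hsch (∑ g, ψ g • R g⁻¹) fun k => by
    rw [Finset.sum_mul, Finset.mul_sum]
    refine Fintype.sum_equiv (MulAut.conj k⁻¹).toEquiv _ _ fun g => ?_
    rw [show (MulAut.conj k⁻¹).toEquiv g = k⁻¹ * g * k⁻¹⁻¹ from rfl, hψ, smul_mul_assoc,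
      mul_smul_comm, ← map_mul, ← map_mul]
    congr 2
    group
  have h1 := congrArg Matrix.trace hd
  rw [Matrix.trace_sum, Matrix.trace_smul, Matrix.trace_one, Fintype.card_fin, smul_eq_mul,
    Finset.sum_congr rfl (g := fun g => ψ g * (R g⁻¹).trace) (fun g _ => Matrix.trace_smul _ _),
    horth] at h1
  have h2 : d = 0 := by
    rcases mul_eq_zero.mp h1.symm with h | h
    · exact h
    · refine absurd ?_ hs
      exact_mod_cast congrArg (fun v : V => (v : ℂ)) h
  rw [hd, h2, zero_smul]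

theorem good_one (hs : s ≠ 0)
    (hsch : ∀ X : Matrix (Fin s) (Fin s) V, (∀ g, X * R g = R g * X) →
      ∃ d : V, X = d • (1 : Matrix (Fin s) (Fin s) V))
    (htr : ∑ g : G, (R g).trace = 0) : Good (V := V) P R (1 : ↥E →* V) := by
  refine ⟨fun _ => 1, rfl, fun g y _ => ⟨rfl, rfl⟩, fun x g => by simp, ?_⟩
  refine schur_sum_zero R hs hsch _ (fun _ _ => rfl) ?_
  simp only [one_mul]
  rw [← htr]
  exact Fintype.sum_equiv (Equiv.inv G) _ _ fun g => rfl

variable (P) in
/-- The projection of a function on the behaviour of `c`. -/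
noncomputable def avg (c : ↥E →* V) (ψ : G → V) (g : G) : V :=
  ∑ x : E, ∑ y : P, c x⁻¹ * ψ (g * ((y : G) * (x : G)))

theorem avg_mul_right (c : ↥E →* V) (ψ : G → V) (g : G) {y : G} (hy : y ∈ P) :
    avg P c ψ (g * y) = avg P c ψ g := by
  refine Finset.sum_congr rfl fun x _ => Fintype.sum_equiv (Equiv.mulLeft (⟨y, hy⟩ : P)) _ _ fun z => ?_
  simp [mul_assoc]

theorem avg_mul_left (h : Loc p P E) (c : ↥E →* V) (ψ : G → V)
    (hψ : ∀ g k, ψ (k * g * k⁻¹) = ψ g) (g : G) {y : G} (hy : y ∈ P) :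
    avg P c ψ (y * g) = avg P c ψ g := by
  refine Finset.sum_congr rfl fun x _ => ?_
  refine Fintype.sum_equiv (Equiv.mulRight (⟨x * y * (x : G)⁻¹, h.norm x x.2 y hy⟩ : P)) _ _ fun z => ?_
  congr 1
  rw [Equiv.coe_mulRight, ← hψ (y * g * ((z : G) * x)) y⁻¹]
  congr 1
  simp [mul_assoc]

theorem avg_mul_e (_h : Loc p P E) (c : ↥E →* V) (ψ : G → V)
    (hψ : ∀ g k, ψ (k * g * k⁻¹) = ψ g) (x₀ : E) (g : G) :
    avg P c ψ ((x₀ : G) * g) = c x₀ * avg P c ψ g := by
  rw [avg, avg, Finset.mul_sum]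
  refine Fintype.sum_equiv (Equiv.mulRight x₀) _ _ fun x => ?_
  rw [Equiv.coe_mulRight, Finset.mul_sum]
  refine Finset.sum_congr rfl fun y _ => ?_
  show c x⁻¹ * ψ ((x₀ : G) * g * ((y : G) * (x : G))) =
    c x₀ * (c (x * x₀)⁻¹ * ψ (g * ((y : G) * ((x : G) * (x₀ : G)))))
  rw [← mul_assoc (c x₀), ← map_mul, _root_.mul_inv_rev, mul_inv_cancel_left,
    ← hψ ((x₀ : G) * g * ((y : G) * x)) (x₀ : G)⁻¹]
  congr 2
  simp [mul_assoc]

theorem avg_annihilated (hs : s ≠ 0)
    (hsch : ∀ X : Matrix (Fin s) (Fin s) V, (∀ g, X * R g = R g * X) →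
      ∃ d : V, X = d • (1 : Matrix (Fin s) (Fin s) V))
    (c : ↥E →* V) (ψ : G → V) (hψ : ∀ g k, ψ (k * g * k⁻¹) = ψ g)
    (horth : ∑ g, ψ g * (R g⁻¹).trace = 0) : ∑ g, avg P c ψ g • R g⁻¹ = 0 := by
  simp only [avg, Finset.sum_smul]
  rw [Finset.sum_comm]
  refine Finset.sum_eq_zero fun x _ => ?_
  rw [Finset.sum_comm]
  refine Finset.sum_eq_zero fun y _ => ?_
  calc ∑ g, (c x⁻¹ * ψ (g * ((y : G) * x))) • R g⁻¹
      = ∑ g, c x⁻¹ • (R ((y : G) * x) * (ψ g • R g⁻¹)) := by
        refine Fintype.sum_equiv (Equiv.mulRight ((y : G) * x)) _ _ fun g => ?_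
        rw [Equiv.coe_mulRight, mul_smul_comm, smul_smul, ← map_mul, _root_.mul_inv_rev,
          mul_inv_cancel_left]
    _ = 0 := by rw [← Finset.smul_sum, ← Finset.mul_sum, schur_sum_zero R hs hsch ψ hψ horth,
        mul_zero, smul_zero]

/-- An integral normalised average is a witness. -/
theorem good_avg (h : Loc p P E) (hpV : ¬ IsUnit (p : V)) (hs : s ≠ 0)
    (hsch : ∀ X : Matrix (Fin s) (Fin s) V, (∀ g, X * R g = R g * X) →
      ∃ d : V, X = d • (1 : Matrix (Fin s) (Fin s) V))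
    (c : ↥E →* V) (ψ : G → V) (hψ : ∀ g k, ψ (k * g * k⁻¹) = ψ g)
    (hone : avg P c ψ 1 = (p : V) * (Nat.card E : V))
    (horth : ∑ g, ψ g * (R g⁻¹).trace = 0)
    (hdiv : ∀ g, ∃ b, avg P c ψ g = (p : V) * b) : Good P R c := by
  obtain ⟨w, hw⟩ := isUnit_nat_of_not_dvd h.hp hpV h.cop
  choose b hb using hdiv
  have hp0 : (p : V) ≠ 0 := fun e => h.hp.ne_zero (by
    exact_mod_cast congrArg (fun v : V => (v : ℂ)) e)
  refine ⟨fun g => b g * ((w⁻¹ : Vˣ) : V), ?_, fun g y hy => ⟨?_, ?_⟩, fun x g => ?_, ?_⟩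
  · rw [hb, mul_right_inj' hp0, ← hw] at hone
    show b 1 * _ = 1
    rw [hone, Units.mul_inv]
  · show b _ * _ = b _ * _
    rw [mul_left_cancel₀ hp0 ((hb _).symm.trans ((avg_mul_left h c ψ hψ g hy).trans (hb g)))]
  · show b _ * _ = b _ * _
    rw [mul_left_cancel₀ hp0 ((hb _).symm.trans ((avg_mul_right c ψ g hy).trans (hb g)))]
  · show b _ * _ = c x * (b g * _)
    rw [← mul_assoc]
    congr 1
    refine mul_left_cancel₀ hp0 ?_
    rw [← hb, avg_mul_e h c ψ hψ, hb, mul_left_comm]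
  · refine nsmul_left_cancel (m := p) h.hp.ne_zero ?_
    rw [smul_zero, Finset.smul_sum]
    have hg : ∀ g, p • ((b g * ((w⁻¹ : Vˣ) : V)) • R g⁻¹) = ((w⁻¹ : Vˣ) : V) • (avg P c ψ g • R g⁻¹) := by
      intro g
      rw [← Nat.cast_smul_eq_nsmul V, smul_smul, smul_smul, hb]
      congr 1
      ring
    rw [Finset.sum_congr rfl fun g _ => hg g, ← Finset.smul_sum,
      avg_annihilated R hs hsch c ψ hψ horth, smul_zero]

/-- A unit average gives a projection nonzero modulo the maximal ideal. -/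
theorem qSum_residue_ne_zero (c : ↥E →* V) (g : G)
    (hu : IsUnit (avg P c (fun t => (R t).trace) g)) :
    (qSum P R c).map (IsLocalRing.residue V) ≠ 0 := by
  intro h0
  have h1 : (R g * qSum P R c).trace = avg P c (fun t => (R t).trace) g := by
    rw [qSum, pSum, eSum, Finset.sum_mul, Finset.mul_sum, Matrix.trace_sum, avg, Finset.sum_comm]
    refine Finset.sum_congr rfl fun y _ => ?_
    rw [Finset.mul_sum, Finset.mul_sum, Matrix.trace_sum]
    refine Finset.sum_congr rfl fun x _ => ?_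
    rw [mul_smul_comm, mul_smul_comm, Matrix.trace_smul, smul_eq_mul, ← map_mul, ← map_mul]
  have h2 : ((R g * qSum P R c).map (IsLocalRing.residue V)).trace = 0 := by
    rw [Matrix.map_mul, h0, Matrix.mul_zero, Matrix.trace_zero]
  have h3 := AddMonoidHom.map_trace (IsLocalRing.residue V).toAddMonoidHom (R g * qSum P R c)
  rw [h1] at h3
  replace h2 : IsLocalRing.residue V (avg P c (fun t => (R t).trace) g) = 0 := h3.trans h2
  exact (IsLocalRing.residue_eq_zero_iff _).mp h2 hu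

/-- Two residually distinct surviving projections double the degree. -/
theorem two_mul_le_of_two_projections (h : Loc p P E) (hpV : ¬ IsUnit (p : V))
    (c₁ c₂ : ↥E →* V) (x : E)
    (hx : IsLocalRing.residue V (c₁ x) ≠ IsLocalRing.residue V (c₂ x))
    (h1 : (qSum P R c₁).map (IsLocalRing.residue V) ≠ 0)
    (h2 : (qSum P R c₂).map (IsLocalRing.residue V) ≠ 0) : p * 2 ≤ s := by
  classical
  obtain ⟨y, hy, hy1⟩ : ∃ y ∈ P, y ≠ (1 : G) := by
    have hne : P ≠ ⊥ := fun e => h.hp.ne_one (by rw [← h.cardP, e, Subgroup.card_bot])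
    by_contra hno
    push Not at hno
    exact hne ((Subgroup.eq_bot_iff_forall _).mpr hno)
  set res := IsLocalRing.residue V
  set T := (pSum P R).map res with hT
  have key : ∀ c : ↥E →* V, (qSum P R c).map res ≠ 0 → ∃ v,
      v ≠ 0 ∧ v ∈ LinearMap.range T.mulVecLin ∧ ((R (x : G)).map res) *ᵥ v = res (c x) • v := by
    intro c hc
    obtain ⟨i, j, hij⟩ : ∃ i j, (qSum P R c).map res i j ≠ 0 := by
      by_contra hno
      push Not at hno
      exact hc (Matrix.ext hno)
    refine ⟨(qSum P R c).map res *ᵥ Pi.single j 1, fun e => hij ?_, ?_, ?_⟩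
    · have := congrFun e i
      simpa [Matrix.mulVec_single_one] using this
    · refine ⟨(eSum R c).map res *ᵥ Pi.single j 1, ?_⟩
      rw [Matrix.mulVecLin_apply, Matrix.mulVec_mulVec, hT, ← Matrix.map_mul]
      try rfl
    · rw [Matrix.mulVec_mulVec, ← Matrix.map_mul, e_mul_qSum R h c x, ← Matrix.smul_mulVec]
      congr 1
      try ext a b
      try simp [Matrix.map_apply]
  obtain ⟨v₁, hv1, hm1, he1⟩ := key c₁ h1
  obtain ⟨v₂, hv2, hm2, he2⟩ := key c₂ h2
  have hli : LinearIndependent (IsLocalRing.ResidueField V) ![v₁, v₂] := by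
    rw [LinearIndependent.pair_iff]
    intro a b hab
    have h3 := congrArg (fun v => (R (x : G)).map res *ᵥ v) hab
    simp only [Matrix.mulVec_add, Matrix.mulVec_smul, he1, he2, Matrix.mulVec_zero] at h3
    have h4 : (a * (res (c₁ x) - res (c₂ x))) • v₁ = 0 := by
      have h5 := congrArg (fun v => res (c₂ x) • v) hab
      simp only [smul_add, smul_zero] at h5
      rw [mul_sub, sub_smul, ← smul_smul, ← smul_smul]
      rw [smul_comm (res (c₂ x)) b, ← h3] at h5
      rw [smul_comm a (res (c₂ x))]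
      exact sub_eq_zero.mpr (add_right_cancel h5).symm
    have ha : a = 0 := by
      rcases smul_eq_zero.mp h4 with h5 | h5
      · exact (mul_eq_zero.mp h5).resolve_right (sub_ne_zero.mpr hx)
      · exact absurd h5 hv1
    refine ⟨ha, ?_⟩
    rw [ha, zero_smul, zero_add] at hab
    exact (smul_eq_zero.mp hab).resolve_right hv2
  have hle : 2 ≤ T.rank := by
    have := finrank_span_eq_card hli
    rw [Fintype.card_fin] at this
    rw [Matrix.rank]
    refine le_of_eq_of_le this.symm ?_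
    refine Submodule.finrank_mono (Submodule.span_le.mpr ?_)
    rintro _ ⟨i, rfl⟩
    fin_cases i
    · exact hm1
    · exact hm2
  rw [hT, pSum_eq_geom R h hy hy1] at hle
  exact (Nat.mul_le_mul_left p hle).trans (mul_rank_le h.hp hpV (R y) (R_pow_p R h hy))

/-- The contragredient. -/
noncomputable def contra : G →* Matrix (Fin s) (Fin s) V where
  toFun g := (R g⁻¹)ᵀ
  map_one' := by simp
  map_mul' a b := by rw [_root_.mul_inv_rev, map_mul, Matrix.transpose_mul]

theorem trace_contra (g : G) : (contra R g).trace = (R g⁻¹).trace := Matrix.trace_transpose _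

theorem contra_schur
    (hsch : ∀ X : Matrix (Fin s) (Fin s) V, (∀ g, X * R g = R g * X) →
      ∃ d : V, X = d • (1 : Matrix (Fin s) (Fin s) V))
    (X : Matrix (Fin s) (Fin s) V) (hX : ∀ g, X * contra R g = contra R g * X) :
    ∃ d : V, X = d • (1 : Matrix (Fin s) (Fin s) V) := by
  obtain ⟨d, hd⟩ := hsch Xᵀ fun g => by
    have h1 := congrArg Matrix.transpose (hX g⁻¹)
    simp only [contra, MonoidHom.coe_mk, OneHom.coe_mk, inv_inv, Matrix.transpose_mul,
      Matrix.transpose_transpose] at h1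
    exact h1.symm
  exact ⟨d, by rw [← Matrix.transpose_transpose X, hd, Matrix.transpose_smul, Matrix.transpose_one]⟩

theorem pinv_of_contra (h : Loc p P E) (c c' : ↥E →* V) (hcc : ∀ x, c' x = c x⁻¹)
    (hM : ∃ M, qSum P (contra R) c' * M * qSum P (contra R) c' = qSum P (contra R) c') :
    ∃ M, qSum P R c * M * qSum P R c = qSum P R c := by
  obtain ⟨M, hM⟩ := hM
  have hp : pSum P (contra R) = (pSum P R)ᵀ := by
    rw [pSum, pSum, Matrix.transpose_sum]
    exact Fintype.sum_equiv (Equiv.inv P) _ _ fun y => rfl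
  have he : eSum (contra R) c' = (eSum R c)ᵀ := by
    rw [eSum, eSum, Matrix.transpose_sum]
    refine Fintype.sum_equiv (Equiv.inv E) _ _ fun x => ?_
    rw [Matrix.transpose_smul, hcc, inv_inv]
    simp [contra]
  have hq : qSum P (contra R) c' = (qSum P R c)ᵀ := by
    rw [qSum, qSum, hp, he, ← Matrix.transpose_mul, eSum_pSum R h]
  refine ⟨Mᵀ, Matrix.transpose_injective ?_⟩
  rw [hq] at hM
  rw [Matrix.transpose_mul, Matrix.transpose_mul, Matrix.transpose_transpose, ← mul_assoc]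
  exact hM

end Cfsg.Agent.Char.UniqueP
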