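import Cfsg.Agent.Lib.Char.UniqueP.Chars
import Cfsg.Agent.Lib.Char.UniqueP.Witness
import Cfsg.Agent.Lib.Char.HalfDegree.Reduce
import Mathlib

/-!
# Odd complement: the sum over a Sylow subgroup is at most the degree
-/

set_option autoImplicit false
set_option linter.unusedSectionVars false
set_option linter.style.haveILetI false

open scoped ComplexConjugate

namespace Cfsg.Agent.Char.UniqueP.Ctx

open Cfsg Cfsg.Agent Cfsg.Agent.Char

universe u

variable {G : Type u} [Group G] [Fintype G] {p n : ℕ} {P E : Subgroup G} {u : G} {χ : IrrCharacter G}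

theorem eq_one_of_sq (ho : Odd (Nat.card E)) {v : E} (hv : v * v = 1) : v = 1 := by
  have h1 : v ^ 2 = 1 := by rw [pow_two, hv]
  have h2 : v ^ Nat.gcd 2 (Nat.card E) = 1 := pow_gcd_eq_one.mpr ⟨h1, pow_card_eq_one'⟩
  rwa [Nat.Coprime.gcd_eq_one (Nat.coprime_two_left.mpr ho), pow_one] at h2

theorem sig_eq_inv (h : Ctx p n P E u χ) (ho : Odd (Nat.card E)) (v : E) : h.sig v = v⁻¹ := by
  have hfix : h.sig (v * h.sig v) = v * h.sig v := by
    rw [map_mul, h.sig_sig]
    exact Subtype.ext (h.comm _ (h.sig v).2 _ v.2)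
  exact eq_inv_of_mul_eq_one_right (eq_one_of_sq ho (h.sq_eq_one_of_fixed hfix))

theorem tw_eq_inv (h : Ctx p n P E u χ) (ho : Odd (Nat.card E)) (l : ↥E →* ℂˣ) : h.tw l = l⁻¹ :=
  MonoidHom.ext fun x => by
    show l (h.sig x) = (l x)⁻¹
    rw [h.sig_eq_inv ho, map_inv]

theorem tw_ne (h : Ctx p n P E u χ) (ho : Odd (Nat.card E)) {l : ↥E →* ℂˣ} (hl : l ≠ 1) :
    h.tw l ≠ l := fun e => hl (MonoidHom.ext fun x => by
  have h1 : (l x)⁻¹ = l x := by
    rw [← map_inv, ← h.sig_eq_inv ho]
    exact DFunLike.congr_fun e x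
  have h2 : l x ^ 2 = 1 := by rw [pow_two]; nth_rw 1 [← h1]; rw [inv_mul_cancel]
  have h3 : l x ^ Nat.card E = 1 := by rw [← map_pow, pow_card_eq_one', map_one]
  have h4 : l x ^ Nat.gcd 2 (Nat.card E) = 1 := pow_gcd_eq_one.mpr ⟨h2, h3⟩
  rwa [Nat.Coprime.gcd_eq_one (Nat.coprime_two_left.mpr ho), pow_one] at h4)

/-- Every nontrivial linear character of `E` gives an irreducible character. -/
theorem exists_X (h : Ctx p n P E u χ) [Fintype E] (ho : Odd (Nat.card E)) {l : ↥E →* ℂˣ}
    (hl : l ≠ 1) : ∃ X : IrrCharacter G, wl χ l = (X : G → ℂ) :=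
  h.exists_wl_irr hl (h.tw_ne ho hl)

theorem wl_tw (h : Ctx p n P E u χ) [Fintype E] {l : ↥E →* ℂˣ} (hl : l ≠ 1) (hmv : h.tw l ≠ l) :
    wl χ (h.tw l) = wl χ l := by
  classical
  obtain ⟨X, hX⟩ := h.exists_wl_irr hl hmv
  obtain ⟨Y, hY⟩ := h.exists_wl_irr (h.tw_ne_one hl) (by rw [h.tw_tw]; exact fun e => hmv e.symm)
  have h1 := h.wl_inner (h.tw_ne_one hl) hl
  rw [hX, hY, irrC_orth, if_neg hmv, if_pos rfl, zero_add] at h1
  rw [hX, hY]
  split_ifs at h1 with hXY
  · rw [hXY]
  · exact absurd h1 zero_ne_one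

theorem conj_gl (l : ↥E →* ℂˣ) (g : G) : conj (gl l g) = gl (G := G) l⁻¹ g := by
  rw [gl, gl, indFun, indFun, map_mul, map_sum, map_inv₀, map_natCast]
  congr 1
  refine Finset.sum_congr rfl fun t _ => ?_
  by_cases ht : t⁻¹ * g * t ∈ E
  · rw [extendByZero_mem E _ ht, extendByZero_mem E _ ht, map_sub, map_one, conj_lc]
    simp [lc]
  · rw [extendByZero_not_mem E _ ht, extendByZero_not_mem E _ ht, map_zero]

/-- The characters `wl` are real. -/
theorem conj_wl (h : Ctx p n P E u χ) [Fintype E] (ho : Odd (Nat.card E)) {l : ↥E →* ℂˣ} (hl : l ≠ 1)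
    (g : G) : conj (wl χ l g) = wl χ l g := by
  conv_rhs => rw [← h.wl_tw hl (h.tw_ne ho hl), h.tw_eq_inv ho]
  obtain ⟨k, hk⟩ := h.chi_int g
  simp only [wl, Pi.add_apply, map_add, conj_gl, map_one, hk, map_intCast]

theorem yx_conj (h : Ctx p n P E u χ) [Fintype P] {y x : G} (hy : y ∈ P) (hx : x ∈ E) (hx1 : x ≠ 1) :
    ∃ z ∈ P, y * x = z * x * z⁻¹ :=
  Loc.yx_conj h.toLoc h.centP hy hx hx1

variable {V : ValuationSubring ℂ}

/-- A linear character with values in the valuation ring. -/
noncomputable def liftV (V : ValuationSubring ℂ) (l : ↥E →* ℂˣ) [Finite G] : ↥E →* V where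
  toFun x := ⟨lc l x, mem_of_pow_eq_one V (m := Nat.card E) Nat.card_pos.ne' (by
    show lc l x ^ _ = 1
    rw [lc, ← Units.val_pow_eq_pow_val, ← map_pow, pow_card_eq_one', map_one, Units.val_one])⟩
  map_one' := Subtype.ext (lc_one l)
  map_mul' x y := Subtype.ext (lc_mul l x y)

theorem coe_liftV (l : ↥E →* ℂˣ) (x : E) : ((liftV V l x : V) : ℂ) = lc l x := rfl

theorem residue_liftV_ne (h : Ctx p n P E u χ) (hpV : ¬ IsUnit (p : V)) (ho : Odd (Nat.card E))
    {l : ↥E →* ℂˣ} {x : E} (hx : l x ≠ 1) :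
    IsLocalRing.residue V (liftV V l x) ≠ IsLocalRing.residue V (liftV V l⁻¹ x) := by
  intro e
  set ζ := liftV V l (x * x) with hζ
  have hinv : liftV V l⁻¹ x * liftV V l x = 1 := Subtype.ext (by
    simp [coe_liftV, lc])
  have h1 : IsLocalRing.residue V ζ = 1 := by
    rw [hζ, map_mul, map_mul, ← map_one (IsLocalRing.residue V), ← hinv, map_mul, e]
  have hne : ζ ≠ 1 := by
    intro e1
    apply hx
    have h2 : lc l (x * x) = 1 := congrArg Subtype.val e1
    have h2' : l x ^ 2 = 1 := by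
      rw [pow_two, ← map_mul]
      exact Units.ext h2
    have h3 : l x ^ Nat.card E = 1 := by rw [← map_pow, pow_card_eq_one', map_one]
    have h4 : l x ^ Nat.gcd 2 (Nat.card E) = 1 := pow_gcd_eq_one.mpr ⟨h2', h3⟩
    rwa [Nat.Coprime.gcd_eq_one (Nat.coprime_two_left.mpr ho), pow_one] at h4
  have hpow : ζ ^ Nat.card E = 1 := by rw [hζ, ← map_pow, pow_card_eq_one', map_one]
  have h0 : ∑ j ∈ Finset.range (Nat.card E), ζ ^ j = 0 := by
    have h2 := mul_geom_sum ζ (Nat.card E)
    rw [hpow, sub_self] at h2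
    exact (mul_eq_zero.mp h2).resolve_left (sub_ne_zero.mpr hne)
  have h2 := congrArg (IsLocalRing.residue V) h0
  simp only [map_sum, map_pow, h1, one_pow, Finset.sum_const, Finset.card_range, map_zero, nsmul_one] at h2
  rw [← map_natCast (IsLocalRing.residue V), IsLocalRing.residue_eq_zero_iff] at h2
  exact h2 (isUnit_nat_of_not_dvd h.hp hpV h.cop)

theorem pow_p_self (h : Ctx p n P E u χ) (x : E) : x ^ p = x := by
  rw [h.p_eq, pow_succ, mul_comm n, pow_mul, pow_card_eq_one', one_pow, one_mul]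

/-- The sum over `P` of an irreducible character other than `1` and the `wl` is at most the degree. -/
theorem sum_P_le (h : Ctx p n P E u χ) [Fintype P] [Fintype E] (ho : Odd (Nat.card E))
    (θ : IrrCharacter G) (h1 : (θ : G → ℂ) ≠ fun _ => 1)
    (h3 : ∀ l : ↥E →* ℂˣ, l ≠ 1 → (θ : G → ℂ) ≠ wl χ l) :
    ∃ k : ℕ, ∑ y : P, (θ : G → ℂ) (y : G) = (p : ℂ) * k ∧ p * k ≤ deg (θ : G → ℂ) := by
  classical
  obtain ⟨V, hpV⟩ := HalfDegree.exists_valuation_nonunit h.hp
  haveI := finite_hom_units E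
  letI := Fintype.ofFinite (↥E →* ℂˣ)
  have hcE : ∀ a b : E, a * b = b * a := fun a b => Subtype.ext (h.comm a a.2 b b.2)
  obtain ⟨d, ρ, hρ, hχρ⟩ := id θ.2
  obtain ⟨s, R, hR, hsch⟩ := exists_matrix_form V ρ
  have hRθ : ∀ g, ((R g).trace : ℂ) = (θ : G → ℂ) g := fun g => by rw [← hR, ← hχρ]; rfl
  have hds : deg (θ : G → ℂ) = s := by
    have e := hRθ 1
    rw [map_one, Matrix.trace_one, Fintype.card_fin, char_one_eq_deg (irr_isCharacter θ.2)] at e
    push_cast at e
    exact_mod_cast e.symm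
  have hs : s ≠ 0 := hds ▸ (deg_pos θ.2).ne'
  have hall : ∀ l : ↥E →* ℂˣ, ∃ M, qSum P R (liftV V l) * M * qSum P R (liftV V l) = qSum P R (liftV V l) := by
    intro l
    by_cases hl : l = 1
    · subst hl
      have e1 : liftV V (1 : ↥E →* ℂˣ) = 1 := MonoidHom.ext fun x => Subtype.ext (by
        rw [coe_liftV]; simp [lc])
      rw [e1]
      refine exists_pinv R h.toLoc hpV _ (good_one R hs (hsch hρ) (Subtype.ext ?_))
      rw [AddSubmonoidClass.coe_finsetSum, Finset.sum_congr rfl fun g _ => hRθ g]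
      have h0 := irr_orth θ.2 isIrrCharacter_one
      rw [if_neg h1, classInner, mul_eq_zero] at h0
      simpa using h0.resolve_left (inv_ne_zero (Nat.cast_ne_zero.mpr Nat.card_pos.ne'))
    -- a nontrivial linear character
    obtain ⟨X, hX⟩ := h.exists_X ho hl
    obtain ⟨dX, ρX, hρX, hχX⟩ := id X.2
    obtain ⟨sX, RX, hRX, -⟩ := exists_matrix_form V ρX
    let ψ : G → V := fun g => (RX g).trace
    have hψX : ∀ g, ((ψ g : V) : ℂ) = wl χ l g := fun g => by
      show ((RX g).trace : ℂ) = _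
      rw [hX, ← hRX, ← hχX]; rfl
    have hψc : ∀ g k, ψ (k * g * k⁻¹) = ψ g := fun g k => Subtype.ext (by
      rw [hψX, hψX, hX, isClassFunction_character (irr_isCharacter X.2)])
    have hsX : sX = p + 1 := by
      have e := hψX 1
      rw [h.wl_apply_one] at e
      simp only [ψ, map_one, Matrix.trace_one, Fintype.card_fin] at e
      push_cast at e
      exact_mod_cast e
    obtain ⟨S, hSroot, hSdiv⟩ := frob_closed h.hp hpV
    have hψS : ∀ g, ψ g ∈ S := by
      intro g
      obtain ⟨kz, hkz⟩ := h.chi_int g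
      by_cases hg : ∃ t : G, t⁻¹ * g * t ∈ E ∧ t⁻¹ * g * t ≠ 1
      · obtain ⟨t, ht, ht1⟩ := hg
        set x : E := ⟨t⁻¹ * g * t, ht⟩ with hx
        have hx1 : x ≠ 1 := fun e => ht1 (congrArg Subtype.val e)
        have e : ψ g = liftV V l x + liftV V l (h.sig x) := by
          refine Subtype.ext ?_
          rw [show ψ g = ψ (x : G) from by
            rw [show (x : G) = t⁻¹ * g * t⁻¹⁻¹ by rw [hx, inv_inv]]; exact (hψc g t⁻¹).symm]
          rw [hψX, h.wl_coe l hx1]
          rfl
        rw [e]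
        exact S.add_mem (hSroot _ (by rw [← map_pow, h.pow_p_self]))
          (hSroot _ (by rw [← map_pow, h.pow_p_self]))
      · push Not at hg
        have e : ψ g = 1 + (kz : V) := by
          refine Subtype.ext ?_
          rw [hψX, wl]
          simp only [Pi.add_apply, gl_eq_zero l hg, hkz, zero_add]
          push_cast
          ring
        rw [e]
        exact S.add_mem S.one_mem (intCast_mem S kz)
    have hyx : ∀ (y : P) (x : E), x ≠ 1 → wl χ l ((y : G) * x) = lc l x + lc l (h.sig x) := by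
      intro y x hx
      obtain ⟨z, -, hz⟩ := h.yx_conj y.2 x.2 (fun e => hx (Subtype.ext e))
      rw [hz, hX, isClassFunction_character (irr_isCharacter X.2), ← hX, h.wl_coe l hx]
    -- the witnesses for `l` and for its inverse
    have hwit : ∀ k : ↥E →* ℂˣ, k = l ∨ k = l⁻¹ → (∀ g, ¬ IsUnit (avg P (liftV V k) ψ g)) →
        Good P R (liftV V k) ∧ Good P (contra R) (liftV V k) := by
      intro k hk hnu
      have hk1 : k ≠ 1 := by rcases hk with rfl | rfl; exacts [hl, fun e => hl (MonoidHom.ext fun x => inv_eq_one.mp (DFunLike.congr_fun e x))]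
      have hkk : k * k ≠ 1 := fun e => h.tw_ne ho hk1 (by
        rw [h.tw_eq_inv ho]; exact MonoidHom.ext fun x => inv_eq_of_mul_eq_one_right (DFunLike.congr_fun e x))
      have hlk : ∀ x : E, lc l x + lc l (h.sig x) = lc k x + lc k⁻¹ x := fun x => by
        rw [← lc_tw, h.tw_eq_inv ho]
        rcases hk with rfl | rfl
        · rfl
        · simp [lc, add_comm]
      have hdiv : ∀ g, ∃ b, avg P (liftV V k) ψ g = (p : V) * b := fun g =>
        hSdiv _ (S.sum_mem fun x _ => S.sum_mem fun y _ => S.mul_mem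
          (hSroot _ (by rw [← map_pow, h.pow_p_self])) (hψS _)) (hnu g)
      have hone : avg P (liftV V k) ψ 1 = (p : V) * (Nat.card E : V) := by
        refine Subtype.ext ?_
        rw [avg]
        push_cast
        simp only [one_mul, hψX, coe_liftV]
        rw [Finset.sum_congr rfl (g := fun x : E => (p : ℂ) * (1 + lc (k⁻¹ * k⁻¹) x) +
          if x = 1 then (0 : ℂ) else 0) fun x _ => ?_]
        · simp only [ite_self, add_zero, ← Finset.mul_sum, Finset.sum_add_distrib, Finset.sum_const,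
            Finset.card_univ, ← Nat.card_eq_fintype_card, nsmul_eq_mul, mul_one, sum_lc]
          rw [if_neg, add_zero]
          exact fun e => hkk (MonoidHom.ext fun x => by
            have e' := DFunLike.congr_fun e x
            simp only [MonoidHom.mul_apply, MonoidHom.inv_apply, MonoidHom.one_apply] at e' ⊢
            rw [← inv_eq_one, _root_.mul_inv_rev]; exact e')
        · simp only [ite_self, add_zero]
          have hl2 : lc (k⁻¹ * k⁻¹) x = lc k x⁻¹ * lc k⁻¹ x := by simp [lc]
          by_cases hx : x = 1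
          · subst hx
            rw [Finset.sum_congr rfl (g := fun y : P => (1 : ℂ) + if y = 1 then (p : ℂ) else 0) fun y _ => ?_]
            · rw [Finset.sum_add_distrib, Finset.sum_const, Finset.card_univ, ← Nat.card_eq_fintype_card,
                h.cardP, Finset.sum_ite_eq' Finset.univ (1 : P), if_pos (Finset.mem_univ _)]
              simp [lc]
              ring
            · rw [inv_one, lc_one, one_mul, OneMemClass.coe_one, mul_one]
              by_cases hy : y = 1
              · subst hy; rw [if_pos rfl, OneMemClass.coe_one, h.wl_apply_one, add_comm]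
              · rw [if_neg hy, h.wl_P l y.2 (fun e => hy (Subtype.ext e)), add_zero]
          · rw [Finset.sum_congr rfl (g := fun _ => lc k x⁻¹ * (lc k x + lc k⁻¹ x)) fun y _ => by
              rw [hyx y x hx, hlk], Finset.sum_const, Finset.card_univ, ← Nat.card_eq_fintype_card, h.cardP,
              nsmul_eq_mul, hl2, mul_add, ← lc_mul, inv_mul_cancel, lc_one]
      refine ⟨good_avg R h.toLoc hpV hs (hsch hρ) _ ψ hψc hone (Subtype.ext ?_) hdiv,
        good_avg (contra R) h.toLoc hpV hs (contra_schur R (hsch hρ)) _ ψ hψc hone (Subtype.ext ?_) hdiv⟩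
      · have e : ∀ g, (θ : G → ℂ) g⁻¹ = conj ((θ : G → ℂ) g) := fun g => char_inv (irr_isCharacter θ.2) g
        push_cast
        simp only [hψX, hRθ, e, hX]
        have h0 := irrC_orth X θ
        rw [if_neg (fun ee => h3 l hl (by rw [hX, ee])), classInner, mul_eq_zero] at h0
        exact h0.resolve_left (inv_ne_zero (Nat.cast_ne_zero.mpr Nat.card_pos.ne'))
      · push_cast
        simp only [trace_contra, inv_inv, hψX, hRθ]
        have h0 := irrC_orth θ X
        rw [if_neg (fun ee => h3 l hl (by rw [hX, ee])), classInner, mul_eq_zero] at h0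
        rw [← h0.resolve_left (inv_ne_zero (Nat.cast_ne_zero.mpr Nat.card_pos.ne'))]
        refine Finset.sum_congr rfl fun g _ => ?_
        rw [← hX, h.conj_wl ho hl, mul_comm]
    by_cases hA : ∀ g, ¬ IsUnit (avg P (liftV V l) ψ g)
    · exact exists_pinv R h.toLoc hpV _ (hwit l (Or.inl rfl) hA).1
    by_cases hB : ∀ g, ¬ IsUnit (avg P (liftV V l⁻¹) ψ g)
    · refine pinv_of_contra R h.toLoc (liftV V l) (liftV V l⁻¹) (fun x => Subtype.ext ?_)
        (exists_pinv (contra R) h.toLoc hpV _ (hwit _ (Or.inr rfl) hB).2)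
      simp [coe_liftV, lc]
    exfalso
    push Not at hA hB
    obtain ⟨gA, hgA⟩ := hA
    obtain ⟨gB, hgB⟩ := hB
    obtain ⟨x, hx⟩ : ∃ x : E, l x ≠ 1 := by
      by_contra hno
      push Not at hno
      exact hl (MonoidHom.ext hno)
    have := two_mul_le_of_two_projections RX h.toLoc hpV (liftV V l) (liftV V l⁻¹) x
      (h.residue_liftV_ne hpV ho hx) (qSum_residue_ne_zero RX _ gA hgA) (qSum_residue_ne_zero RX _ gB hgB)
    have := h.p5
    omega
  obtain ⟨k, hk, hle⟩ := trace_le_of_pinv R h.toLoc hpV (exists_pSum_pinv R h.toLoc hpV (fun l => liftV V l)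
    (fun x => Subtype.ext (by
      have e := sum_hom_apply hcE x⁻¹
      simp only [inv_eq_one] at e
      push_cast
      refine (Finset.sum_congr rfl fun l _ => ?_).trans (e.trans ?_)
      · rfl
      · split_ifs <;> simp)) hall)
  refine ⟨k, ?_, by rw [hds]; exact hle⟩
  have e := congrArg (fun v : V => (v : ℂ)) hk
  push_cast at e
  rw [← e, pSum, Matrix.trace_sum, AddSubmonoidClass.coe_finsetSum]
  exact Finset.sum_congr rfl fun y _ => (hRθ _).symm

end Cfsg.Agent.Char.UniqueP.Ctx
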