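import Cfsg.Agent.Lib.Char.RelProj
import Cfsg.Agent.Lib.Char.Knorr
import Mathlib

/-!
# A degree bound from an integral pseudo-inverse of the sum over a group of order `p`

If `T = ∑ y ^ j` over a `p`-element matrix `y` of order dividing `p` over a valuation ring satisfies
`T * Φ * T = T` with `Φ` integral, then the trace of `T` is at most the size of the matrix.
-/

set_option autoImplicit false
set_option linter.unusedSectionVars false
set_option linter.style.haveILetI false

namespace Cfsg.Agent.Char.UniqueP

open Module Matrix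

theorem mul_finrank_range_pow_le {k : Type*} [Field k] {W : Type*} [AddCommGroup W] [Module k W]
    [FiniteDimensional k W] (N : Module.End k W) {p : ℕ} (hN : N ^ p = 0) :
    p * finrank k (LinearMap.range (N ^ (p - 1))) ≤ finrank k W := by
  set r : ℕ → ℕ := fun i => finrank k (LinearMap.range (N ^ i)) with hr
  have hstep : ∀ i, i + 1 ≤ p → r (i + 1) + r (p - 1) ≤ r i := by
    intro i hi
    set R := LinearMap.range (N ^ i) with hR
    have h1 := (N.domRestrict R).finrank_range_add_finrank_ker
    have h2 : LinearMap.range (N.domRestrict R) = LinearMap.range (N ^ (i + 1)) := by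
      rw [LinearMap.range_domRestrict, hR, pow_succ', Module.End.mul_eq_comp, LinearMap.range_comp]
    have h3 : finrank k (LinearMap.range (N ^ (p - 1))) ≤
        finrank k (LinearMap.ker (N.domRestrict R)) := by
      rw [← Submodule.finrank_map_subtype_eq R (LinearMap.ker (N.domRestrict R))]
      refine Submodule.finrank_mono fun x hx => ?_
      obtain ⟨w, rfl⟩ := hx
      have hmem : (N ^ (p - 1)) w ∈ R :=
        ⟨(N ^ (p - 1 - i)) w, by rw [← Module.End.mul_apply, ← pow_add, show i + (p - 1 - i) = p - 1 by omega]⟩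
      refine ⟨⟨_, hmem⟩, ?_, rfl⟩
      show N ((N ^ (p - 1)) w) = 0
      rw [← Module.End.mul_apply, ← pow_succ', Nat.sub_add_cancel (by omega), hN, LinearMap.zero_apply]
    simp only [hr]
    rw [h2, hR] at h1
    rw [hR] at h3
    omega
  have hmain : ∀ j, j ≤ p → j * r (p - 1) ≤ r (p - j) := by
    intro j
    induction j with
    | zero => simp
    | succ j ih =>
      intro hj
      have h1 := ih (by omega)
      have h2 := hstep (p - (j + 1)) (by omega)
      rw [show p - (j + 1) + 1 = p - j by omega] at h2
      rw [Nat.succ_mul]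
      omega
  exact (hmain p le_rfl).trans (Submodule.finrank_le _)

variable {V : ValuationSubring ℂ} {s : ℕ}

/-- An idempotent matrix over a valuation ring splits. -/
theorem exists_split (P : Matrix (Fin s) (Fin s) V) (hP : P * P = P) :
    ∃ (r : ℕ) (U : Matrix (Fin s) (Fin r) V) (W : Matrix (Fin r) (Fin s) V),
      U * W = P ∧ W * U = 1 := by
  classical
  set f : (Fin s → V) →ₗ[V] (Fin s → V) := Matrix.toLin' P with hf
  have hff : f.comp f = f := by rw [hf, ← Matrix.toLin'_mul, hP]
  set S := LinearMap.range f with hS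
  haveI : Module.Finite V S := Module.Finite.range f
  haveI : Module.Flat V S := by
    rw [Module.Flat.flat_iff_torsion_eq_bot_of_isBezout, ← Submodule.isTorsionFree_iff_torsion_eq_bot]
    infer_instance
  haveI : Module.Free V S := Module.free_of_flat_of_isLocalRing
  let b : Basis (Fin (finrank V S)) V S := Module.finBasis V S
  let ι : (Fin (finrank V S) → V) →ₗ[V] (Fin s → V) := S.subtype ∘ₗ b.equivFun.symm.toLinearMap
  let π : (Fin s → V) →ₗ[V] (Fin (finrank V S) → V) := b.equivFun.toLinearMap ∘ₗ f.rangeRestrict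
  refine ⟨_, LinearMap.toMatrix' ι, LinearMap.toMatrix' π, ?_, ?_⟩
  · rw [← LinearMap.toMatrix'_comp]
    have : ι ∘ₗ π = f := LinearMap.ext fun x => by simp [ι, π]
    rw [this, hf, LinearMap.toMatrix'_toLin']
  · rw [← LinearMap.toMatrix'_comp]
    have : π ∘ₗ ι = LinearMap.id := LinearMap.ext fun x => by
      have hfix : f ((b.equivFun.symm x : S) : Fin s → V) = ((b.equivFun.symm x : S) : Fin s → V) := by
        obtain ⟨w, hw⟩ := (b.equivFun.symm x).2
        rw [← hw]
        exact LinearMap.congr_fun hff w
      show b.equivFun (f.rangeRestrict ((b.equivFun.symm x : S) : Fin s → V)) = x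
      rw [show f.rangeRestrict ((b.equivFun.symm x : S) : Fin s → V) = b.equivFun.symm x from
        Subtype.ext hfix]
      exact b.equivFun.apply_symm_apply x
    rw [this, LinearMap.toMatrix'_id]

/-- The sum over a group of order `p` has small rank modulo `p`. -/
theorem mul_rank_le {p : ℕ} (hp : p.Prime) (hpV : ¬ IsUnit (p : V))
    (y : Matrix (Fin s) (Fin s) V) (hy : y ^ p = 1) :
    p * ((∑ j ∈ Finset.range p, y ^ j).map (IsLocalRing.residue V)).rank ≤ s := by
  classical
  let k := IsLocalRing.ResidueField V
  let res : V →+* k := IsLocalRing.residue V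
  have hpk : ((p : ℕ) : k) = 0 := by
    rw [← map_natCast res]
    exact (IsLocalRing.residue_eq_zero_iff _).mpr hpV
  haveI : CharP k p := (CharP.charP_iff_prime_eq_zero hp).mpr hpk
  let L : Matrix (Fin s) (Fin s) V →+* Module.End k (Fin s → k) :=
    (Matrix.toLinAlgEquiv' : Matrix (Fin s) (Fin s) k ≃ₐ[k] _).toRingEquiv.toRingHom.comp
      res.mapMatrix
  have hN : (L y - 1) ^ p = 0 := by
    rw [← Nat.sub_add_cancel hp.one_le, pow_succ, ← geom_sum_eq_sub_one_pow (k := k) hp,
      geom_sum_mul, ← map_pow, hy, map_one, sub_self]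
  have h2 := mul_finrank_range_pow_le (L y - 1) hN
  rw [← geom_sum_eq_sub_one_pow (k := k) hp, ← Finset.sum_congr rfl (fun j _ => map_pow L y j),
    ← map_sum, Module.finrank_fin_fun] at h2
  exact h2

/-- The degree bound. -/
theorem sum_pow_trace_le {p : ℕ} (hp : p.Prime) (hpV : ¬ IsUnit (p : V))
    (y Φ : Matrix (Fin s) (Fin s) V) (hy : y ^ p = 1)
    (h : (∑ j ∈ Finset.range p, y ^ j) * Φ * (∑ j ∈ Finset.range p, y ^ j) =
      ∑ j ∈ Finset.range p, y ^ j) :
    ∃ c : ℕ, (∑ j ∈ Finset.range p, y ^ j).trace = (p : V) * c ∧ p * c ≤ s := by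
  classical
  set T := ∑ j ∈ Finset.range p, y ^ j with hT
  have hyT : y * T = T := by
    have := mul_geom_sum y p
    rw [hy, sub_self, sub_mul, one_mul, sub_eq_zero] at this
    exact this
  have hyj : ∀ j, y ^ j * T = T := by
    intro j
    induction j with
    | zero => rw [pow_zero, one_mul]
    | succ j ih => rw [pow_succ, mul_assoc, hyT, ih]
  have hTT : T * T = p • T := by
    nth_rw 1 [hT]
    rw [Finset.sum_mul, Finset.sum_congr rfl fun j _ => hyj j, Finset.sum_const, Finset.card_range]
  have hidem : (T * Φ) * (T * Φ) = T * Φ := by rw [← mul_assoc, h]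
  obtain ⟨r, U, W, hUW, hWU⟩ := exists_split (T * Φ) hidem
  refine ⟨r, ?_, ?_⟩
  · calc T.trace = (T * Φ * T).trace := by rw [h]
      _ = (T * T * Φ).trace := Matrix.trace_mul_cycle _ _ _
      _ = (p : V) * (T * Φ).trace := by rw [hTT, smul_mul_assoc, Matrix.trace_smul, nsmul_eq_mul]
      _ = (p : V) * r := by rw [← hUW, Matrix.trace_mul_comm, hWU, Matrix.trace_one, Fintype.card_fin]
  · let k := IsLocalRing.ResidueField V
    let res : V →+* k := IsLocalRing.residue V
    have hWU' : W.map res * U.map res = 1 := by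
      rw [← Matrix.map_mul, hWU, Matrix.map_one res (map_zero _) (map_one _)]
    have h1 : r ≤ (T.map res).rank := by
      have e : (1 : Matrix (Fin r) (Fin r) k) =
          W.map res * ((T * Φ).map res * U.map res) := by
        rw [← hUW, Matrix.map_mul, Matrix.mul_assoc (U.map res), hWU', Matrix.mul_one, hWU']
      calc r = (1 : Matrix (Fin r) (Fin r) k).rank := by rw [Matrix.rank_one, Fintype.card_fin]
        _ ≤ ((T * Φ).map res * U.map res).rank := by rw [e]; exact Matrix.rank_mul_le_right _ _
        _ ≤ ((T * Φ).map res).rank := Matrix.rank_mul_le_left _ _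
        _ ≤ (T.map res).rank := by rw [Matrix.map_mul]; exact Matrix.rank_mul_le_left _ _
    exact (Nat.mul_le_mul_left p h1).trans (mul_rank_le hp hpV y hy)

end Cfsg.Agent.Char.UniqueP
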